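import Cfsg.Agent.Lib.Golay.Out

/-!
The relations recorded by a certificate for the outer automorphism group.
-/

set_option autoImplicit false

namespace Cfsg.Agent.LeechCount.Co3Out

open Cfsg Cfsg.Agent.Golay24

noncomputable section

variable {d : OutCert} {H : Subgroup (Equiv.Perm GolayPt)}

/-- Relations and normaliser facts of the certificate. -/
theorem outHyp_rels (h : OutHyp d H) : orderOf h.A = d.p ∧ h.B * h.A = h.A ^ d.r * h.B ∧
    h.C * h.B = h.B ^ d.s * h.C ∧ (∀ g : H, g * h.A = h.A ^ d.r * g → ∃ j : ℕ, h.A ^ j * g = h.B * h.A ^ j) ∧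
    ∀ g : H, g * h.B = h.B ^ d.s * g → ∃ g0 ∈ d.cB.sols, (g : Equiv.Perm GolayPt) = toPerm g0 := by
  haveI := Fact.mk h.prime
  have hok := h.ok
  simp only [OutCert.ok, Bool.and_eq_true, List.all_eq_true, List.mem_range, beq_iff_eq,
    Nat.blt_eq, Bool.not_eq_true', Bool.or_eq_true, List.contains_iff_mem] at hok
  obtain ⟨⟨⟨⟨⟨⟨⟨⟨⟨⟨⟨⟨⟨⟨⟨⟨⟨⟨hav, hbv⟩, hcv⟩, hp0⟩, hr0⟩, hs0⟩, hap⟩, hane⟩, hba⟩, hcb⟩,
    hAa⟩, hAa'⟩, hBa⟩, hBa'⟩, hjA⟩, hred⟩, hks⟩, hwords⟩, hpairs⟩ := hok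
  have hA : orderOf h.A = d.p := by
    obtain ⟨h1, h2⟩ := toPerm_powP' hav hp0
    refine orderOf_eq_prime (Subtype.ext ?_) fun he =>
      not_one_of_not_isIdP hav hane (congrArg Subtype.val he)
    rw [Subgroup.coe_pow]
    exact h2.symm.trans (toPerm_eq_one_of_isIdP h1 hap)
  obtain ⟨hrv, hre⟩ := toPerm_powP' hav hr0
  obtain ⟨hsv, hse⟩ := toPerm_powP' hbv hs0
  have eBA : h.B * h.A = h.A ^ d.r * h.B := by
    apply Subtype.ext
    show toPerm d.b * toPerm d.a = ((h.A ^ d.r : H) : Equiv.Perm GolayPt) * toPerm d.b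
    rw [Subgroup.coe_pow, show (h.A : Equiv.Perm GolayPt) = toPerm d.a from rfl, ← hre]
    exact mul_eq_of_compP hbv hav hrv hbv hba
  have eCB : h.C * h.B = h.B ^ d.s * h.C := by
    apply Subtype.ext
    show toPerm d.c * toPerm d.b = ((h.B ^ d.s : H) : Equiv.Perm GolayPt) * toPerm d.c
    rw [Subgroup.coe_pow, show (h.B : Equiv.Perm GolayPt) = toPerm d.b from rfl, ← hse]
    exact mul_eq_of_compP hcv hbv hsv hcv hcb
  have hvA : ∀ g ∈ d.cA.sols, validP g = true ∧ h.inH g = true := by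
    have := h.okA
    simp only [EqCert.ok, Bool.and_eq_true, List.all_eq_true] at this
    exact this.1.2
  refine ⟨hA, eBA, eCB, fun g hg => ?_, fun g hg => d.cB.sound h.okB h.mem h.le h.hfix h.hsets h.finB g.2 (by
    rw [hBa, hBa', hse]
    exact congrArg Subtype.val hg)⟩
  obtain ⟨g0, hg0, he0⟩ := d.cA.sound h.okA h.mem h.le h.hfix h.hsets h.finA g.2 (by
    rw [hAa, hAa', hre]
    exact congrArg Subtype.val hg)
  obtain ⟨i, hi, rfl⟩ := List.mem_iff_getElem.1 hg0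
  obtain ⟨hj0, hje⟩ := hjA i hi
  rw [List.getD_eq_getElem _ _ hi] at hje
  obtain ⟨hjv, hjp⟩ := toPerm_powP' hav hj0
  refine ⟨d.jA.getD i 0, Subtype.ext ?_⟩
  show ((h.A ^ d.jA.getD i 0 : H) : Equiv.Perm GolayPt) * g =
    toPerm d.b * ((h.A ^ d.jA.getD i 0 : H) : Equiv.Perm GolayPt)
  rw [Subgroup.coe_pow, show (h.A : Equiv.Perm GolayPt) = toPerm d.a from rfl, ← hjp, he0]
  exact mul_eq_of_compP hjv (hvA _ hg0).1 hbv hjv hje

end

end Cfsg.Agent.LeechCount.Co3Out
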