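import Cfsg.Agent.Lib.LeechCount.Co3Out.Model
import Cfsg.Agent.Lib.LeechCount.Co3Out.Rels

/-!
Every automorphism of the stabiliser of a norm 48 vector is inner.
-/

set_option autoImplicit false

namespace Cfsg.Agent.LeechCount.Co3Out

open Cfsg Cfsg.Agent.Leech Cfsg.Agent.Golay24 Cfsg.Agent.LeechCount.Co3Rank MulAction

noncomputable section

attribute [local irreducible] normFS dotFS

theorem gA_order : orderOf gA = 23 := by
  rw [gA, orderOf_injective iota iota_injective, (outHyp_rels m23OutHyp).1]; rfl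

theorem gA_rel : gB * gA = gA ^ 2 * gB := by
  rw [gA, gB, ← map_pow, ← map_mul, ← map_mul]; exact congrArg iota (outHyp_rels m23OutHyp).2.1

theorem gB_rel : gC * gB = gB ^ 3 * gC := by
  rw [gB, gC, ← map_pow, ← map_mul, ← map_mul]; exact congrArg iota cB_rel

theorem gB_pow11 : gB ^ 11 = 1 := by
  rw [gB, ← map_pow, show m23OutHyp.B ^ 11 = 1 from ?_, map_one]
  apply Subtype.ext
  rw [Subgroup.coe_pow, show (m23OutHyp.B : Equiv.Perm GolayPt) = toPerm m23Out.b from rfl, OneMemClass.coe_one]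
  obtain ⟨hv, he⟩ := toPerm_powP' (valid_of_inM24 a_inM24.2) (by norm_num : 0 < 11)
  exact he.symm.trans (toPerm_eq_one_of_isIdP hv (by decide +kernel))

theorem gB_pow_mod (i : ℕ) : gB ^ i = gB ^ (i % 11) := by
  conv_lhs => rw [← Nat.div_add_mod i 11, pow_add, pow_mul, gB_pow11, one_pow, one_mul]

theorem bc_pow5 (i : ℕ) : (gB ^ i * gC) ^ 5 = 1 := by
  rw [gB_pow_mod, gB, gC, ← map_pow, ← map_mul, ← map_pow,
    show (m23OutHyp.B ^ (i % 11) * m23OutHyp.C) ^ 5 = 1 from ?_, map_one]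
  apply Subtype.ext
  rw [Subgroup.coe_pow, Subgroup.coe_mul, Subgroup.coe_pow,
    show (m23OutHyp.B : Equiv.Perm GolayPt) = toPerm m23Out.b from rfl,
    show (m23OutHyp.C : Equiv.Perm GolayPt) = toPerm m23Out.c from rfl, OneMemClass.coe_one]
  have hcv : validP m23Out.c = true := by decide +kernel
  have hchk : ∀ k < 11, isIdP (powP (compP (powP m23Out.b (k + 11)) m23Out.c) 5) = true := by decide +kernel
  obtain ⟨hv, he⟩ := toPerm_powP' (valid_of_inM24 a_inM24.2) (show 0 < i % 11 + 11 by omega)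
  obtain ⟨hv5, he5⟩ := toPerm_powP' (validP_compP hv hcv) (by norm_num : 0 < 5)
  have hk := toPerm_eq_one_of_isIdP hv5 (hchk (i % 11) (Nat.mod_lt _ (by norm_num)))
  rw [he5, toPerm_compP hv hcv, he, pow_add, show toPerm m23Out.b ^ 11 = 1 from ?_, mul_one] at hk
  · exact hk
  · obtain ⟨hv', he'⟩ := toPerm_powP' (valid_of_inM24 a_inM24.2) (by norm_num : 0 < 11)
    exact he'.symm.trans (toPerm_eq_one_of_isIdP hv' (by decide +kernel))

/-- A packed permutation as a letter. -/
def stC : Stp := .perm m23Out.c cInv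

theorem d_comm_c : Commute dG gC := by
  have hok : stC.ok = true := by decide +kernel
  have h : wEl [Stp.d, stC] = wEl [stC, Stp.d] := wEl_eq (by decide +kernel)
  obtain ⟨h', he⟩ := Stp.el_perm hok
  have e : (stC.el : ↥G3) = gC := he.trans rfl
  simp only [wEl, List.map_cons, List.map_nil, List.prod_cons, List.prod_nil, mul_one] at h
  rw [e] at h
  exact h

theorem dG_ne_one : dG ≠ 1 := by
  have h : wEl [Stp.d] ≠ 1 := wEl_ne_one (k := 23) (by decide +kernel)
  simpa [wEl, Stp.el] using h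

theorem dG_sq : dG * dG = 1 := Subtype.ext dEl_sq

theorem gB_half {i : ℕ} (h : gB ^ (2 * i) = 1) : gB ^ i = 1 := by
  have e : gB ^ i = (gB ^ (2 * i)) ^ 6 := by
    rw [← pow_mul, show 2 * i * 6 = 11 * i + i by ring, pow_add, pow_mul, gB_pow11, one_pow, one_mul]
  rw [e, h, one_pow]

/-- The elements inducing the cube on the element of order 11. -/
theorem normaliser_gB (g : ↥G3) (hg : g * gB = gB ^ 3 * g) :
    ∃ i < 11, g = gB ^ i * gC ∨ g = dG * gB ^ i * gC := by
  have hs : gB = (gB ^ 3) ^ 4 := by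
    rw [← pow_mul, show 3 * 4 = 11 + 1 by norm_num, pow_succ, gB_pow11, one_mul]
  have h1 : gC⁻¹ * gB = gB ^ 4 * gC⁻¹ := by
    have e : gC * gB ^ 4 * gC⁻¹ = gB := by
      rw [← conj_pow, show gC * gB * gC⁻¹ = gB ^ 3 by rw [gB_rel, mul_inv_cancel_right], ← hs]
    calc gC⁻¹ * gB = gC⁻¹ * (gC * gB ^ 4 * gC⁻¹) := by rw [e]
      _ = gB ^ 4 * gC⁻¹ := by group
  have h2 : g * gB ^ 4 = gB * g := by
    have e : g * gB * g⁻¹ = gB ^ 3 := by rw [hg, mul_inv_cancel_right]
    calc g * gB ^ 4 = g * gB ^ 4 * g⁻¹ * g := by group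
      _ = (g * gB * g⁻¹) ^ 4 * g := by rw [conj_pow]
      _ = gB * g := by rw [e, ← hs]
  obtain ⟨i, hi⟩ := centraliser_b (g * gC⁻¹) (by rw [mul_assoc, h1, ← mul_assoc, h2, mul_assoc])
  refine ⟨i % 11, Nat.mod_lt _ (by norm_num), ?_⟩
  rw [← gB_pow_mod]
  exact hi.imp (fun h => by rw [← h, inv_mul_cancel_right]) fun h => by rw [← h, inv_mul_cancel_right]

theorem range_eq_closure : iota.range = Subgroup.closure ({gA, gB, gC} : Set ↥G3) := by
  rw [MonoidHom.range_eq_map, ← m23OutHyp.gen_top, MonoidHom.map_closure]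
  congr 1
  simp only [Set.image_insert_eq, Set.image_singleton]

/-- Every automorphism is inner. -/
theorem aut_inner (φ : MulAut ↥G3) : φ ∈ Inn ↥G3 := by
  have := Fact.mk (show Nat.Prime 23 by norm_num)
  have hfac : (Nat.card ↥G3).factorization 23 = 1 :=
    factorization_eq_one (m := 21555072000) (by norm_num) (by rw [card_G3]) (by norm_num)
  obtain ⟨h, kk, -, g, hg, e1, e2, e3⟩ := aut_normal_form (r := 2) (s := 3) (ks := [1, 5])
    (L := (List.range 11).flatMap fun i => [gB ^ i * gC, dG * gB ^ i * gC]) hfac gA_order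
    (fun k h0 hk => (show ∀ k < 23, 0 < k → ∃ i < 11, ∃ kk ∈ ([1, 5] : List ℕ), k * 2 ^ i % 23 = kk % 23 by
      decide +kernel) k hk h0 |>.imp fun i hi => hi.2)
    gA_rel normaliser_a gB_rel
    (fun g hg => by
      obtain ⟨i, hi, hor⟩ := normaliser_gB g hg
      exact List.mem_flatMap.2 ⟨i, List.mem_range.2 hi, by simpa using hor⟩) φ
  generalize hχ : MulAut.conj h * φ = χ at e1 e2 e3
  suffices hin : χ ∈ Inn ↥G3 by
    have : φ = (MulAut.conj h)⁻¹ * χ := by rw [← hχ, inv_mul_cancel_left]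
    rw [this]
    exact (Inn ↥G3).mul_mem ((Inn ↥G3).inv_mem ⟨h, rfl⟩) hin
  obtain ⟨i, -, hi⟩ := List.mem_flatMap.1 hg
  have hgC : ∃ i : ℕ, g = gB ^ i * gC := by
    simp only [List.mem_cons, List.not_mem_nil, or_false] at hi
    rcases hi with hi | hi
    · exact ⟨i, hi⟩
    exfalso
    have h5 : g ^ 5 = 1 := by
      rw [← e3, ← map_pow, show gC ^ 5 = 1 by simpa using bc_pow5 0, map_one]
    have hc : Commute dG (gB ^ i * gC) := (Commute.pow_right d_comm_b i).mul_right d_comm_c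
    rw [hi, mul_assoc, hc.mul_pow, bc_pow5, mul_one,
      show dG ^ 5 = dG by rw [show (5 : ℕ) = 2 * 2 + 1 from rfl, pow_succ, pow_mul, pow_two dG, dG_sq, one_pow, one_mul]]
      at h5
    exact dG_ne_one h5
  obtain ⟨i0, rfl⟩ := hgC
  -- the Mathieu group is preserved
  have hle : iota.range.map χ.toMonoidHom ≤ iota.range := by
    conv_lhs => rw [range_eq_closure, MonoidHom.map_closure]
    rw [Subgroup.closure_le]
    rintro x ⟨y, (rfl | rfl | rfl), rfl⟩
    · show χ gA ∈ iota.range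
      rw [e1]; exact iota.range.pow_mem ⟨_, rfl⟩ _
    · show χ gB ∈ iota.range
      rw [e2]; exact ⟨_, rfl⟩
    · show χ gC ∈ iota.range
      rw [e3]; exact iota.range.mul_mem (iota.range.pow_mem ⟨_, rfl⟩ _) ⟨_, rfl⟩
  have hmap : iota.range.map χ.toMonoidHom = iota.range :=
    Subgroup.eq_of_le_of_card_ge hle (le_of_eq (Nat.card_congr (χ.subgroupMap iota.range).toEquiv))
  let e : ↥Spor.M23 ≃* ↥iota.range := MonoidHom.ofInjective iota_injective
  let ρ : MulAut ↥Spor.M23 :=
    (e.trans ((χ.subgroupMap iota.range).trans (MulEquiv.subgroupCongr hmap))).trans e.symm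
  have hρ : ∀ x, iota (ρ x) = χ (iota x) := fun x =>
    congrArg Subtype.val (e.apply_symm_apply ((χ.subgroupMap iota.range).trans (MulEquiv.subgroupCongr hmap) (e x)))
  have hsub : Subsingleton (Cfsg.Out ↥Spor.M23) :=
    (Nat.card_eq_one_iff_unique.1 card_out_M23).1
  obtain ⟨u, hu⟩ : ρ ∈ Inn ↥Spor.M23 := (QuotientGroup.eq_one_iff ρ).1 (Subsingleton.elim _ _)
  set χ' : MulAut ↥G3 := (MulAut.conj (iota u))⁻¹ * χ with hχ'
  have hfix : ∀ x, χ' (iota x) = iota x := fun x => by
    show (iota u)⁻¹ * χ (iota x) * iota u = iota x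
    rw [← hρ, ← hu, MulAut.conj_apply, map_mul, map_mul, map_inv]
    group
  -- the involution is fixed
  have hd : χ' dG = dG := by
    have hcomm : χ' dG * gB = gB * χ' dG := by
      have h1 := congrArg χ' d_comm_b
      rwa [map_mul, map_mul, show χ' gB = gB from hfix _] at h1
    have hsq : χ' dG * χ' dG = 1 := by rw [← map_mul, dG_sq, map_one]
    obtain ⟨j, hj | hj⟩ := centraliser_b _ hcomm
    · exfalso
      rw [hj, ← pow_add, ← two_mul] at hsq
      rw [gB_half hsq] at hj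
      exact dG_ne_one ((MulEquiv.map_eq_one_iff χ').1 hj)
    · have hc : Commute dG (gB ^ j) := Commute.pow_right d_comm_b j
      rw [hj, ← pow_two, hc.mul_pow, pow_two dG, dG_sq, one_mul, ← pow_mul, mul_comm] at hsq
      rw [hj, gB_half hsq, mul_one]
  have hone : χ' = 1 := by
    have := MonoidHom.eq_of_eqOn_dense K3_top (f := χ'.toMonoidHom) (g := MonoidHom.id _) (by
      rintro x (rfl | rfl | rfl | rfl)
      exacts [hfix _, hfix _, hfix _, hd])
    exact MulEquiv.ext fun x => DFunLike.congr_fun this x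
  rw [hχ', inv_mul_eq_one] at hone
  exact ⟨iota u, hone⟩

theorem card_out : Nat.card (Cfsg.Out ↥Spor.Co3) = 1 := by
  rw [card_out_congr co3Equiv]
  exact card_out_eq_one aut_inner

end

end Cfsg.Agent.LeechCount.Co3Out
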