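import Cfsg.Agent.Lib.LeechCount.Co3Out.Elt

/-!
The normaliser relations of elements of order 23 and 11 in the stabiliser of a norm 48 vector.
-/

set_option autoImplicit false

namespace Cfsg.Agent.LeechCount.Co3Out

open Cfsg Cfsg.Agent.Leech Cfsg.Agent.Golay24 Cfsg.Agent.LeechCount.Co3Rank MulAction

noncomputable section

attribute [local irreducible] normFS dotFS

/-- The element of order 23. -/
abbrev gA : ↥G3 := iota m23OutHyp.A

/-- The element of order 11. -/
abbrev gB : ↥G3 := iota m23OutHyp.B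

/-- The element normalising the second. -/
abbrev gC : ↥G3 := iota m23OutHyp.C

theorem iterate_const {α β : Type*} {f : α → α} {y : α → β} (h : ∀ i, y (f i) = y i) (k : ℕ) (i : α) :
    y (f^[k] i) = y i := by
  induction k with
  | zero => rfl
  | succ k ih => rw [Function.iterate_succ_apply', h, ih]

theorem fixed_app {p : ℕ} (hp : inM24 p = true) {z : Vec} (hz : z ∈ leechLattice)
    (h : ap (permCo (toPerm p) (toPerm_mem_M24 hp)) z = z) (j : GolayPt) : z (appPt p j) = z j := by
  have := congrFun h (toPerm p j)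
  rw [ap_permCo _ hz, Equiv.symm_apply_apply, toPerm_apply (valid_of_inM24 hp)] at this
  exact this.symm

theorem a_inM24 : inM24 m23Out.a = true ∧ inM24 m23Out.b = true := by decide +kernel

theorem gA_val : (gA : ↥Co0) = permCo (toPerm m23Out.a) (toPerm_mem_M24 a_inM24.1) := rfl

theorem gB_val : (gB : ↥Co0) = permCo (toPerm m23Out.b) (toPerm_mem_M24 a_inM24.2) := rfl

theorem dot_vecV_e8 : dotInt Spor.vecV (e8 none) = -40 := by decide +kernel

/-- The image of the coordinate vector under an element centralising `p`. -/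
theorem image_facts {g : ↥Co0} (hg : g ∈ G3) :
    ap g (e8 none) ∈ leechLattice ∧ sqNorm (ap g (e8 none)) = 64 ∧
      dotInt Spor.vecV (ap g (e8 none)) = -40 := by
  refine ⟨ap_mem g (e8_mem none), (ap_norm g (e8_mem none)).trans (e8_norm none), ?_⟩
  conv_lhs => rw [← mem_G3.1 hg]
  rw [ap_dot g vecV_leech (e8_mem none), dot_vecV_e8]

/-- An element of the stabiliser fixing the coordinate vector lies in the Mathieu group. -/
theorem mem_iota_of_fix {g : ↥G3} (he : ap (g : ↥Co0) (e8 none) = e8 none) : ∃ σ, g = iota σ := by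
  obtain ⟨σ, S, hσ, -, happ⟩ := stab_e8 (g : ↥Co0) (by rw [he]; exact Cong.refl _)
  have hu := mem_G3.1 g.2
  rw [happ _ vecV_leech] at hu
  have hneg : ∀ i, Spor.vecV i < 0 := by decide +kernel
  have hS : ∀ i, i ∉ S := fun i hi => by
    have := congrFun hu i
    simp only [mono, hi, if_true] at this
    have := hneg i; have := hneg (σ.symm i)
    omega
  have hn : σ none = none := by
    have h1 := congrFun (he.symm.trans (happ _ (e8_mem none))) (σ none)
    simp only [mono, hS, if_false, Equiv.symm_apply_apply, e8, if_true] at h1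
    by_contra hne
    rw [if_neg hne] at h1
    omega
  refine ⟨⟨σ, hσ, hn⟩, Subtype.ext (ext_e8 fun i => ?_)⟩
  rw [iota_val, happ _ (e8_mem i)]
  funext j
  rw [ap_permCo _ (e8_mem i)]
  simp [mono, hS]

theorem cycle_a : ∀ i : GolayPt, i = none ∨ ∃ k : Fin 24, (appPt m23Out.a)^[k.val] (some 0) = i := by
  decide +kernel

/-- A fixed vector of the element of order 23 with these invariants is the coordinate vector. -/
theorem fixed_a {y : Vec} (hy : y ∈ leechLattice) (hn : sqNorm y = 64) (hd : dotInt Spor.vecV y = -40)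
    (hf : ap (gA : ↥Co0) y = y) : y = e8 none := by
  rw [gA_val] at hf
  have hc : ∀ i, i ≠ none → y i = y (some 0) := fun i hi => by
    obtain ⟨k, hk⟩ := (cycle_a i).resolve_left hi
    rw [← hk, iterate_const (fixed_app a_inM24.1 hy hf)]
  have e1 : sqNorm y = y none ^ 2 + 23 * y (some 0) ^ 2 := by
    rw [sqNorm, Fintype.sum_option, Finset.sum_congr rfl fun i _ => by rw [hc (some i) (by simp)]]
    simp [ZMod.card]
  have e2 : dotInt Spor.vecV y = -5 * y none - 23 * y (some 0) := by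
    rw [dotInt, Fintype.sum_option, Finset.sum_congr rfl fun i _ => by rw [hc (some i) (by simp)]]
    simp [Spor.vecV, ZMod.card]
    ring
  rw [hn] at e1
  rw [hd] at e2
  have h1 : -1 ≤ y (some 0) ∧ y (some 0) ≤ 1 := by constructor <;> nlinarith [sq_nonneg (y none)]
  have h0 : y (some 0) = 0 ∧ y none = 8 := by omega
  funext i
  rcases eq_or_ne i none with rfl | hi
  · simp [e8, h0.2]
  · rw [hc i hi, h0.1]; simp [e8, hi]

theorem pow_fix {g : ↥G3} {y : Vec} (hy : y ∈ leechLattice) (h : ap (g : ↥Co0) y = y) :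
    ∀ n : ℕ, ap ((g ^ n : ↥G3) : ↥Co0) y = y
  | 0 => by rw [pow_zero]; exact ap_one y
  | n + 1 => by rw [pow_succ, Subgroup.coe_mul, ap_mul _ _ hy, h, pow_fix hy h n]

theorem fixed_of_rel {g h k : ↥G3} (hrel : g * h = k * g) {y : Vec} (hy : y ∈ leechLattice)
    (hfix : ap (h : ↥Co0) y = y) : ap (k : ↥Co0) (ap (g : ↥Co0) y) = ap (g : ↥Co0) y := by
  rw [← ap_mul _ _ hy, ← Subgroup.coe_mul, ← hrel, Subgroup.coe_mul, ap_mul _ _ hy, hfix]

theorem e8_fixed (σ : ↥Spor.M23) : ap (iota σ : ↥Co0) (e8 none) = e8 none := by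
  funext i
  rw [iota_val, ap_permCo _ (e8_mem none)]
  have : σ.1.symm i = none ↔ i = none := by
    rw [Equiv.symm_apply_eq, show σ.1 none = none from σ.2.2]
  simp [e8, this]

theorem a_pow23 : m23OutHyp.A ^ 23 = 1 := by
  have h : validP m23Out.a = true ∧ isIdP (powP m23Out.a 23) = true := by decide +kernel
  obtain ⟨h1, h2⟩ := toPerm_powP' h.1 (by norm_num : 0 < 23)
  apply Subtype.ext
  rw [Subgroup.coe_pow]
  exact h2.symm.trans (toPerm_eq_one_of_isIdP h1 h.2)

theorem jA_check : ∀ i < m23Out.cA.sols.length, 0 < m23Out.jA.getD i 0 ∧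
    compP (powP m23Out.a (m23Out.jA.getD i 0)) (m23Out.cA.sols.getD i 0) =
      compP m23Out.b (powP m23Out.a (m23Out.jA.getD i 0)) := by
  decide +kernel

/-- The elements inducing the power on the element of order 23. -/
theorem normaliser_a (g : ↥G3) (hg : g * gA = gA ^ 2 * g) : ∃ j : ℕ, gA ^ j * g = gB * gA ^ j := by
  obtain ⟨hy, hn, hd⟩ := image_facts g.2
  have h2 : ap ((gA ^ 2 : ↥G3) : ↥Co0) (ap (g : ↥Co0) (e8 none)) = ap (g : ↥Co0) (e8 none) :=
    fixed_of_rel hg (e8_mem none) (e8_fixed _)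
  have h24 : gA = (gA ^ 2) ^ 12 := by
    rw [← pow_mul, show 2 * 12 = 23 + 1 by norm_num, pow_succ, ← map_pow, a_pow23, map_one, one_mul]
  have h1 : ap (gA : ↥Co0) (ap (g : ↥Co0) (e8 none)) = ap (g : ↥Co0) (e8 none) := by
    rw [h24]; exact pow_fix hy h2 12
  obtain ⟨σ, rfl⟩ := mem_iota_of_fix (fixed_a hy hn hd h1)
  have hσ : σ * m23OutHyp.A = m23OutHyp.A ^ 2 * σ := iota_injective (by simpa using hg)
  have hs : m23Out.cA.a = m23Out.a ∧ m23Out.cA.a' = powP m23Out.a 2 := by decide +kernel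
  have hav := valid_of_inM24 a_inM24.1
  obtain ⟨g0, hg0, he0⟩ := m23Out.cA.sound m23OutHyp.okA m23OutHyp.mem m23OutHyp.le m23OutHyp.hfix
    m23OutHyp.hsets m23OutHyp.finA σ.2 (by
      rw [hs.1, hs.2, (toPerm_powP' hav (by norm_num : 0 < 2)).2]
      exact congrArg Subtype.val hσ)
  obtain ⟨i, hi, rfl⟩ := List.mem_iff_getElem.1 hg0
  obtain ⟨hj0, hje⟩ := jA_check i hi
  rw [List.getD_eq_getElem _ _ hi] at hje
  obtain ⟨hjv, hjp⟩ := toPerm_powP' hav hj0
  have hvA : ∀ s ∈ m23Out.cA.sols, validP s = true := by decide +kernel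
  refine ⟨m23Out.jA.getD i 0, ?_⟩
  rw [← map_pow, ← map_mul, ← map_mul]
  congr 1
  apply Subtype.ext
  show ((m23OutHyp.A ^ m23Out.jA.getD i 0 : ↥Spor.M23) : Equiv.Perm GolayPt) * σ.1 =
    toPerm m23Out.b * ((m23OutHyp.A ^ m23Out.jA.getD i 0 : ↥Spor.M23) : Equiv.Perm GolayPt)
  rw [Subgroup.coe_pow, show (m23OutHyp.A : Equiv.Perm GolayPt) = toPerm m23Out.a from rfl, ← hjp, he0]
  exact mul_eq_of_compP hjv (hvA _ hg0) (valid_of_inM24 a_inM24.2) hjv hje

/-- The cycle of a point. -/
def bCls (i : GolayPt) : ℕ := bRep.getD (idx i).val 0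

theorem cycle_b : ∀ i : GolayPt,
    (appPt m23Out.b)^[bPos.getD (idx i).val 0] (ptN (bCls i)) = i := by
  decide +kernel

/-- The vector with given values on the four cycles. -/
def fourVec (p q A B : ℤ) : Vec := fun i =>
  if bCls i = 23 then p else if bCls i = 0 then q
    else if bCls i = 1 then A else B

theorem ePrime_eq : vecOf ePrime = dFun (e8 none) ∧ vecOf ePrime = fourVec 4 (-2) 0 2 := by decide +kernel

theorem four_cases : ∀ p ∈ Finset.Icc (-8 : ℤ) 8, ∀ q ∈ Finset.Icc (-8 : ℤ) 8,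
    ∀ A ∈ Finset.Icc (-2 : ℤ) 2, ∀ B ∈ Finset.Icc (-2 : ℤ) 2,
    p ^ 2 + q ^ 2 + 11 * A ^ 2 + 11 * B ^ 2 = 64 → 5 * p + q + 11 * A + 11 * B = 40 →
      (p, q, A, B) = (8, 0, 0, 0) ∨ (p, q, A, B) = (4, -2, 0, 2) ∨ (p, q, A, B) = (4, -2, 2, 0) := by
  decide +kernel

theorem four_formulas (p q A B : ℤ) :
    sqNorm (fourVec p q A B) = p ^ 2 + q ^ 2 + 11 * A ^ 2 + 11 * B ^ 2 ∧
      dotInt Spor.vecV (fourVec p q A B) = -(5 * p + q + 11 * A + 11 * B) := by
  have hc : (Finset.univ.filter fun i : GolayPt => bCls i = 23) = {none} ∧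
      (Finset.univ.filter fun i : GolayPt => bCls i = 0) = {some 0} ∧
      (Finset.univ.filter fun i : GolayPt => bCls i = 1).card = 11 ∧
      (Finset.univ.filter fun i : GolayPt => bCls i = 4).card = 11 ∧
      ∀ i : GolayPt, bCls i ∈ ({23, 0, 1, 4} : Finset ℕ) := by decide +kernel
  obtain ⟨h1, h2, h3, h4, h5⟩ := hc
  have key : ∀ f : GolayPt → ℤ → ℤ, (∀ i, i ≠ none → ∀ t, f i t = f (some 0) t) →
      ∑ i, f i (fourVec p q A B i) = f none p + f (some 0) q + 11 * f (some 0) A + 11 * f (some 0) B := by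
    intro f hf
    rw [← Finset.sum_fiberwise_of_maps_to (t := ({23, 0, 1, 4} : Finset ℕ))
      (g := fun i : GolayPt => bCls i) fun i _ => h5 i]
    rw [Finset.sum_insert (by decide), Finset.sum_insert (by decide), Finset.sum_pair (by decide)]
    have hcls : ∀ k, ∀ v, (k = 23 → v = p) → (k = 0 → v = q) → (k = 1 → v = A) → (k = 4 → v = B) →
        ∀ i ∈ Finset.univ.filter (fun i : GolayPt => bCls i = k), k ∈ ({23, 0, 1, 4} : Finset ℕ) →
        fourVec p q A B i = v := by
      intro k v e1 e2 e3 e4 i hi hk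
      simp only [Finset.mem_filter, Finset.mem_univ, true_and] at hi
      simp only [Finset.mem_insert, Finset.mem_singleton] at hk
      unfold fourVec
      rcases hk with rfl | rfl | rfl | rfl <;> simp [hi]
      exacts [(e1 rfl).symm, (e2 rfl).symm, (e3 rfl).symm, (e4 rfl).symm]
    have hne : ∀ k, k ≠ 23 → ∀ i ∈ Finset.univ.filter (fun i : GolayPt => bCls i = k), i ≠ none := by
      intro k hk i hi e
      have hm : i ∈ Finset.univ.filter (fun i : GolayPt => bCls i = 23) := by
        rw [h1, e]; exact Finset.mem_singleton_self none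
      exact hk ((Finset.mem_filter.1 hi).2.symm.trans (Finset.mem_filter.1 hm).2)
    rw [Finset.sum_congr rfl fun i hi => by rw [hcls 23 p (fun _ => rfl) (fun h => absurd h (by decide)) (fun h => absurd h (by decide)) (fun h => absurd h (by decide)) i hi (by decide)],
      Finset.sum_congr rfl (s₁ := Finset.univ.filter fun i : GolayPt => bCls i = 0) fun i hi => by
        rw [hcls 0 q (fun h => absurd h (by decide)) (fun _ => rfl) (fun h => absurd h (by decide)) (fun h => absurd h (by decide)) i hi (by decide), hf i (hne 0 (by decide) i hi)],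
      Finset.sum_congr rfl (s₁ := Finset.univ.filter fun i : GolayPt => bCls i = 1) fun i hi => by
        rw [hcls 1 A (fun h => absurd h (by decide)) (fun h => absurd h (by decide)) (fun _ => rfl) (fun h => absurd h (by decide)) i hi (by decide), hf i (hne 1 (by decide) i hi)],
      Finset.sum_congr rfl (s₁ := Finset.univ.filter fun i : GolayPt => bCls i = 4) fun i hi => by
        rw [hcls 4 B (fun h => absurd h (by decide)) (fun h => absurd h (by decide)) (fun h => absurd h (by decide)) (fun _ => rfl) i hi (by decide), hf i (hne 4 (by decide) i hi)],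
      h1, h2, Finset.sum_singleton, Finset.sum_singleton, Finset.sum_const, Finset.sum_const, h3, h4]
    simp only [nsmul_eq_mul, Nat.cast_ofNat]
    ring
  constructor
  · exact key (fun _ t => t ^ 2) fun _ _ _ => rfl
  · refine (key (fun i t => Spor.vecV i * t) fun i hi t => by simp [Spor.vecV, hi]).trans ?_
    simp [Spor.vecV]
    ring

/-- A fixed vector of the element of order 11 with these invariants is one of two. -/
theorem fixed_b {y : Vec} (hy : y ∈ leechLattice) (hn : sqNorm y = 64) (hd : dotInt Spor.vecV y = -40)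
    (hf : ap (gB : ↥Co0) y = y) : y = e8 none ∨ y = ap dEl (e8 none) := by
  rw [gB_val] at hf
  have hrep : ∀ i, y i = y (ptN (bCls i)) := fun i => by
    conv_lhs => rw [← cycle_b i]
    exact iterate_const (fixed_app a_inM24.2 hy hf) _ _
  have hval : ∀ i : GolayPt, bCls i ∈ ({23, 0, 1, 4} : Finset ℕ) := by decide +kernel
  set p := y (ptN 23)
  set q := y (ptN 0)
  set A := y (ptN 1)
  set B := y (ptN 4)
  have hy4 : y = fourVec p q A B := funext fun i => by
    rw [hrep i]
    have := hval i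
    simp only [Finset.mem_insert, Finset.mem_singleton] at this
    rcases this with h | h | h | h <;> simp [fourVec, h, p, q, A, B]
  obtain ⟨f1, f2⟩ := four_formulas p q A B
  rw [← hy4, hn] at f1
  rw [← hy4, hd] at f2
  have hp : -8 ≤ p ∧ p ≤ 8 := by constructor <;> nlinarith [sq_nonneg q, sq_nonneg A, sq_nonneg B]
  have hq : -8 ≤ q ∧ q ≤ 8 := by constructor <;> nlinarith [sq_nonneg p, sq_nonneg A, sq_nonneg B]
  have hA : -2 ≤ A ∧ A ≤ 2 := by constructor <;> nlinarith [sq_nonneg p, sq_nonneg q, sq_nonneg B]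
  have hB : -2 ≤ B ∧ B ≤ 2 := by constructor <;> nlinarith [sq_nonneg p, sq_nonneg q, sq_nonneg A]
  rcases four_cases p (Finset.mem_Icc.2 hp) q (Finset.mem_Icc.2 hq) A (Finset.mem_Icc.2 hA) B
    (Finset.mem_Icc.2 hB) f1.symm (by omega) with h | h | h <;>
    simp only [Prod.mk.injEq] at h <;> obtain ⟨e1, e2, e3, e4⟩ := h <;> rw [hy4, e1, e2, e3, e4]
  · exact Or.inl (by decide +kernel)
  · exact Or.inr (by rw [ap_dEl (e8_mem none), ← ePrime_eq.1, ePrime_eq.2])
  · exfalso
    rw [hy4, e1, e2, e3, e4] at hy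
    rcases exists_witness hy with h0 | h0
    · have hbad : inCode (maskOf (pat 0 (fourVec 4 (-2) 2 0))) = false := by decide +kernel
      exact Bool.false_ne_true (hbad.symm.trans (mem_supports_iff_inCode.1 h0.2.2))
    · have := h0.1 none
      rw [show fourVec 4 (-2) 2 0 none = 4 by decide +kernel] at this
      omega

theorem sols_check : ∀ g0 ∈ m23Out.cB.sols, validP g0 = true ∧ ∃ i : Fin 11,
    compP g0 idP = compP (compP (powP m23Out.b (i.val + 1)) m23Out.c) idP := by
  decide +kernel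

theorem cB_rel : m23OutHyp.C * m23OutHyp.B = m23OutHyp.B ^ 3 * m23OutHyp.C := by
  have h : validP m23Out.b = true ∧ validP m23Out.c = true ∧
      (compP m23Out.c m23Out.b = compP (powP m23Out.b 3) m23Out.c) := by decide +kernel
  obtain ⟨h1, h2⟩ := toPerm_powP' h.1 (by norm_num : 0 < 3)
  apply Subtype.ext
  show toPerm m23Out.c * toPerm m23Out.b =
    ((m23OutHyp.B ^ 3 : ↥Spor.M23) : Equiv.Perm GolayPt) * toPerm m23Out.c
  rw [Subgroup.coe_pow, show (m23OutHyp.B : Equiv.Perm GolayPt) = toPerm m23Out.b from rfl, ← h2]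
  exact mul_eq_of_compP h.2.1 h.1 h1 h.2.1 h.2.2

theorem centraliser_b_M23 (σ : ↥Spor.M23) (h : σ * m23OutHyp.B = m23OutHyp.B * σ) :
    ∃ i : ℕ, σ = m23OutHyp.B ^ i := by
  have hs : m23Out.cB.a = m23Out.b ∧ m23Out.cB.a' = powP m23Out.b 3 := by decide +kernel
  have hbv := valid_of_inM24 a_inM24.2
  have hrel : σ * m23OutHyp.C * m23OutHyp.B = m23OutHyp.B ^ 3 * (σ * m23OutHyp.C) := by
    have hc : Commute σ (m23OutHyp.B ^ 3) := (Commute.pow_right h 3)
    rw [mul_assoc, cB_rel, ← mul_assoc, hc.eq, mul_assoc]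
  obtain ⟨g0, hg0, he0⟩ := m23Out.cB.sound m23OutHyp.okB m23OutHyp.mem m23OutHyp.le m23OutHyp.hfix
    m23OutHyp.hsets m23OutHyp.finB (σ * m23OutHyp.C).2 (by
      rw [hs.1, hs.2, (toPerm_powP' hbv (by norm_num : 0 < 3)).2]
      exact congrArg Subtype.val hrel)
  obtain ⟨hgv, i, hi⟩ := sols_check g0 hg0
  obtain ⟨hpv, hpp⟩ := toPerm_powP' hbv (show 0 < i.val + 1 by omega)
  have hcv : validP m23Out.c = true := by decide +kernel
  refine ⟨i.val + 1, mul_right_cancel (b := m23OutHyp.C) (Subtype.ext ?_)⟩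
  have e := congrArg toPerm hi
  rw [toPerm_compP hgv idP_spec.1, toPerm_compP (validP_compP hpv hcv) idP_spec.1, toPerm_idP, mul_one,
    mul_one, toPerm_compP hpv hcv, ← he0, hpp] at e
  simp only [Subgroup.coe_mul, Subgroup.coe_pow, show (m23OutHyp.B : Equiv.Perm GolayPt) = toPerm m23Out.b from rfl,
    show (m23OutHyp.C : Equiv.Perm GolayPt) = toPerm m23Out.c from rfl] at e ⊢
  exact e

theorem d_comm_b : dG * gB = gB * dG := by
  apply Subtype.ext
  rw [Subgroup.coe_mul, Subgroup.coe_mul, dG_val, gB_val]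
  refine ext_e8 fun i => ?_
  have hinv : ∀ i, appPt m23Out.b (appPt bInv i) = i := by decide +kernel
  rw [ap_mul _ _ (e8_mem i), ap_mul _ _ (e8_mem i), ap_dEl (ap_mem _ (e8_mem i)),
    ap_perm_inv a_inM24.2 hinv (e8_mem i), ap_perm_inv a_inM24.2 hinv (ap_mem _ (e8_mem i)),
    ap_dEl (e8_mem i)]
  revert i
  decide +kernel

/-- The centraliser of the element of order 11. -/
theorem centraliser_b (g : ↥G3) (hg : g * gB = gB * g) : ∃ i : ℕ, g = gB ^ i ∨ g = dG * gB ^ i := by
  have key : ∀ g : ↥G3, g * gB = gB * g → ap (g : ↥Co0) (e8 none) = e8 none → ∃ i : ℕ, g = gB ^ i := by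
    intro g hg he
    obtain ⟨σ, rfl⟩ := mem_iota_of_fix he
    obtain ⟨i, rfl⟩ := centraliser_b_M23 σ (iota_injective (by simpa using hg))
    exact ⟨i, map_pow _ _ _⟩
  obtain ⟨hy, hn, hd⟩ := image_facts g.2
  rcases fixed_b hy hn hd (fixed_of_rel hg (e8_mem none) (e8_fixed _)) with h | h
  · obtain ⟨i, hi⟩ := key g hg h
    exact ⟨i, Or.inl hi⟩
  · have hdd : dG * dG = 1 := Subtype.ext dEl_sq
    obtain ⟨i, hi⟩ := key (dG * g) (by rw [mul_assoc, hg, ← mul_assoc, d_comm_b, mul_assoc]) (by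
      rw [Subgroup.coe_mul, dG_val, ap_mul _ _ (e8_mem none), h, ← ap_mul _ _ (e8_mem none), dEl_sq, ap_one])
    exact ⟨i, Or.inr (by rw [← hi, ← mul_assoc, hdd, one_mul])⟩

end

end Cfsg.Agent.LeechCount.Co3Out
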