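import Cfsg.Agent.Lib.LeechCount.Co3Out.Gen
import Cfsg.Agent.Lib.LeechCount.Co3Out.ActData

/-!
The faithful action of the vector stabiliser on the 552 vectors, evaluated through packed tables.
-/

set_option autoImplicit false

namespace Cfsg.Agent.LeechCount.Co3Out

open Cfsg Cfsg.Agent.Leech Cfsg.Agent.Golay24 Cfsg.Agent.LeechCount.Co3Rank MulAction

noncomputable section

attribute [local irreducible] normFS dotFS

/-- The vector of an index. -/
def ptV (i : ℕ) : Vec := vecN (getSlot 96 co3Tab i)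

/-- Table lookup. -/
def lk (T i : ℕ) : ℕ := getSlot 10 T i

theorem ptV_mem {i : ℕ} (hi : i < 552) : ptV i ∈ leechLattice := (K3_reach.2.2 i hi).mem vecU_leech

/-- The element moves the indexed vectors by the given function. -/
def Acts (g : ↥G3) (f : ℕ → ℕ) : Prop := ∀ i < 552, f i < 552 ∧ ap (g : ↥Co0) (ptV i) = ptV (f i)

theorem Acts.mul {g h : ↥G3} {f k : ℕ → ℕ} (hg : Acts g f) (hh : Acts h k) :
    Acts (g * h) fun i => f (k i) := fun i hi =>
  ⟨(hg _ (hh i hi).1).1, by rw [Subgroup.coe_mul, ap_mul _ _ (ptV_mem hi), (hh i hi).2, (hg _ (hh i hi).1).2]⟩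

theorem Acts.one : Acts 1 id := fun i hi => ⟨hi, ap_one (ptV i)⟩

theorem Acts.pow {g : ↥G3} {f : ℕ → ℕ} (hg : Acts g f) : ∀ n : ℕ, Acts (g ^ n) f^[n]
  | 0 => by rw [pow_zero]; exact Acts.one
  | n + 1 => by rw [pow_succ', Function.iterate_succ']; exact hg.mul (Acts.pow hg n)

theorem Acts.congr {g : ↥G3} {f k : ℕ → ℕ} (hg : Acts g f) (h : ∀ i < 552, k i = f i) : Acts g k :=
  fun i hi => by rw [h i hi]; exact hg i hi

/-- A test for the table of a permutation. -/
def permTblB (p T : ℕ) : Bool := inM24 p && (app p 23 == 23) &&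
  (List.range 552).all fun i => Nat.blt (lk T i) 552 && edgeB p (getSlot 96 co3Tab i) (getSlot 96 co3Tab (lk T i))

theorem Acts.of_perm {p T : ℕ} (h : permTblB p T = true) (h' : (inM24 p && app p 23 == 23) = true) :
    Acts (iota (mEl p h')) (lk T) := fun i hi => by
  simp only [permTblB, Bool.and_eq_true, List.all_eq_true, List.mem_range, Nat.blt_eq] at h
  obtain ⟨⟨hM, -⟩, ht⟩ := h
  obtain ⟨hlt, he⟩ := ht i hi
  exact ⟨hlt, ap_perm_eq hM (ptV_mem hi) (vecN_edge hM he)⟩

/-- A test for part of the table of the involution. -/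
def dTblB (lo n : ℕ) : Bool := (List.range n).all fun k => Nat.blt (lk tblD (lo + k)) 552 &&
  (dL (lstN (getSlot 96 co3Tab (lo + k))) == lstN (getSlot 96 co3Tab (lk tblD (lo + k))))

theorem tblD_ok0 : dTblB 0 92 = true := by decide +kernel

theorem tblD_ok1 : dTblB 92 92 = true := by decide +kernel

theorem tblD_ok2 : dTblB 184 92 = true := by decide +kernel

theorem tblD_ok3 : dTblB 276 92 = true := by decide +kernel

theorem tblD_ok4 : dTblB 368 92 = true := by decide +kernel

theorem tblD_ok5 : dTblB 460 92 = true := by decide +kernel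

theorem acts_d : Acts dG (lk tblD) := fun i hi => by
  obtain ⟨m, k, hm, hk, rfl⟩ : ∃ m k, m < 6 ∧ k < 92 ∧ i = 92 * m + k :=
    ⟨i / 92, i % 92, by omega, Nat.mod_lt _ (by norm_num), (Nat.div_add_mod i 92).symm⟩
  have h : dTblB (92 * m) 92 = true := by
    interval_cases m
    exacts [tblD_ok0, tblD_ok1, tblD_ok2, tblD_ok3, tblD_ok4, tblD_ok5]
  simp only [dTblB, Bool.and_eq_true, List.all_eq_true, List.mem_range, Nat.blt_eq, beq_iff_eq] at h
  obtain ⟨hlt, he⟩ := h k hk
  refine ⟨hlt, ?_⟩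
  show ap dEl (ptV _) = ptV _
  rw [ap_dEl (ptV_mem hi), ptV, ← vecOf_lstN, dFun_vecOf, he, vecOf_lstN, ptV]

/-- The vector with two entries four. -/
def xV (c : ZMod 23) : Vec := fun i => if i = none ∨ i = some c then 4 else 0

theorem xV_index : ∀ c : ZMod 23, ∃ i : Fin 23, ∀ x, ptV i.val x = xV c x := by decide +kernel

theorem xV_sum : ∀ x : GolayPt, 9 * e8 none x = (∑ c : ZMod 23, xV c x) + 4 * Spor.vecV x := by decide +kernel

theorem xV_double : ∀ (c : ZMod 23) (x : GolayPt), e8 (some c) x = 2 * xV c x - e8 none x := by decide +kernel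

/-- An element fixing the 552 vectors is trivial. -/
theorem Acts.eq_one {g : ↥G3} {f : ℕ → ℕ} (hg : Acts g f) (hf : ∀ i < 552, f i = i) : g = 1 := by
  have hx : ∀ c, xV c ∈ leechLattice ∧ ap (g : ↥Co0) (xV c) = xV c := fun c => by
    obtain ⟨i, hi⟩ := xV_index c
    have e : ptV i.val = xV c := funext hi
    have h := (hg i.val (by omega)).2
    rw [hf i.val (by omega), e] at h
    exact ⟨e ▸ ptV_mem (by omega), h⟩
  let X : ZMod 23 → ↥leechLattice := fun c => ⟨xV c, (hx c).1⟩
  have gX : ∀ c, coHom (g : ↥Co0) (X c) = X c := fun c =>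
    Subtype.ext ((ap_coe (g : ↥Co0) (X c)).symm.trans (hx c).2)
  have gU : coHom (g : ↥Co0) U0 = U0 := Subtype.ext ((ap_coe (g : ↥Co0) U0).symm.trans (mem_G3.1 g.2))
  let E : ↥leechLattice := ⟨e8 none, e8_mem none⟩
  have hE : (9 : ℤ) • E = ∑ c, X c + (4 : ℤ) • U0 := by
    apply Subtype.ext
    push_cast
    funext x
    simpa [Finset.sum_apply, E, X, U0] using xV_sum x
  have gE9 : (9 : ℤ) • coHom (g : ↥Co0) E = (9 : ℤ) • E := by
    rw [← map_zsmul, hE, map_add, map_sum, map_zsmul, gU, Finset.sum_congr rfl fun c _ => gX c]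
  have gE : coHom (g : ↥Co0) E = E := by
    apply Subtype.ext
    funext x
    have := congrFun (congrArg Subtype.val gE9) x
    simp only [AddSubgroup.coe_zsmul, Pi.smul_apply, smul_eq_mul] at this
    omega
  refine Subtype.ext (ext_e8 fun i => ?_)
  rw [show ((1 : ↥G3) : ↥Co0) = 1 from rfl, ap_one]
  rcases i with _ | c
  · exact (ap_coe (g : ↥Co0) E).trans (congrArg Subtype.val gE)
  · have hc : (⟨e8 (some c), e8_mem _⟩ : ↥leechLattice) = (2 : ℤ) • X c - E := by
      apply Subtype.ext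
      push_cast
      funext x
      simpa [E, X] using xV_double c x
    have h := congrArg Subtype.val (congrArg (coHom (g : ↥Co0)) hc)
    rw [map_sub, map_zsmul, gX, gE, ← hc] at h
    exact (ap_coe (g : ↥Co0) ⟨e8 (some c), e8_mem _⟩).trans h

/-- Some indexed vector is moved. -/
def movesB (f : ℕ → ℕ) : Bool :=
  (List.range 552).any fun i => getSlot 96 co3Tab (f i) != getSlot 96 co3Tab i

theorem codes_norm : ∀ i < 552, normB (getSlot 96 co3Tab i) = true := by decide +kernel

theorem Acts.ne_one {g : ↥G3} {f : ℕ → ℕ} (hg : Acts g f) (h : movesB f = true) : g ≠ 1 := by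
  rw [movesB, List.any_eq_true] at h
  obtain ⟨i, hi, hne⟩ := h
  rw [List.mem_range] at hi
  rw [bne_iff_ne] at hne
  rintro rfl
  obtain ⟨hlt, he⟩ := hg i hi
  rw [show ((1 : ↥G3) : ↥Co0) = 1 from rfl, ap_one] at he
  exact hne (vecN_injOn (codes_norm _ hlt) (codes_norm _ hi) he.symm)

/-- All indices are fixed. -/
def fixesB (f : ℕ → ℕ) : Bool := (List.range 552).all fun i => f i == i

theorem Acts.eq_one' {g : ↥G3} {f : ℕ → ℕ} (hg : Acts g f) (h : fixesB f = true) : g = 1 :=
  hg.eq_one fun i hi => by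
    simp only [fixesB, List.all_eq_true, List.mem_range, beq_iff_eq] at h
    exact h i hi

end

end Cfsg.Agent.LeechCount.Co3Out
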