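import Cfsg.Agent.Lib.LeechCount.Co3Rank.Cert

/-! Data for one automorphism outside the stabiliser of the frame (produced by an offline script). -/

set_option autoImplicit false

namespace Cfsg.Agent.LeechCount.Co3Out

noncomputable section

/-- Sextet labels. -/
def dLab1 : List (Fin 6) := [3, 0, 5, 0, 1, 3, 4, 0, 5, 2, 4, 1, 2, 3, 2, 1, 1, 2, 4, 3, 5, 4, 0, 5]

/-- Sextet labels. -/
def dLab2 : List (Fin 6) := [5, 0, 1, 3, 4, 4, 3, 2, 0, 2, 1, 3, 1, 1, 2, 2, 0, 5, 3, 4, 0, 5, 4, 5]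

/-- Sextet labels. -/
def dLab3 : List (Fin 6) := [0, 5, 1, 5, 3, 2, 0, 3, 0, 1, 0, 4, 1, 5, 4, 2, 2, 3, 4, 1, 2, 3, 4, 5]

/-- The sign set. -/
def dSgn : ℕ := 3100182

/-- The permutation. -/
def dPerm : ℕ := 61950442186339438175624208105017028

/-- Its inverse. -/
def dPermInv : ℕ := 874312775291657322717111936757086962

/-- The inverse of the second generator. -/
def bInv : ℕ := 967962020449459705618078602616230144

/-- The inverse of the third generator. -/
def cInv : ℕ := 965040046192139784698016584727674912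

/-- Cycle representatives of the second generator. -/
def bRep : List ℕ := [0, 1, 1, 1, 4, 1, 4, 4, 1, 4, 4, 1, 1, 4, 4, 4, 1, 1, 4, 1, 1, 4, 4, 23]

/-- Positions within the cycles. -/
def bPos : List ℕ := [0, 0, 5, 3, 0, 6, 1, 10, 10, 5, 9, 8, 1, 2, 3, 4, 9, 7, 8, 2, 4, 7, 6, 0]

/-- The other fixed vector. -/
def ePrime : List ℤ := [-2, 0, 0, 0, 2, 0, 2, 2, 0, 2, 2, 0, 0, 2, 2, 2, 0, 0, 2, 0, 0, 2, 2, 4]

end

end Cfsg.Agent.LeechCount.Co3Out
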