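import Cfsg.Agent.Lib.LeechCount.Co3Out.Data
import Cfsg.Agent.Lib.LeechCount.Co3Rank.Orbits
import Cfsg.Agent.Lib.Golay.Out

/-!
The point stabiliser of the 24 points inside the stabiliser of a norm 48 vector, and one involution
outside it.
-/

set_option autoImplicit false

namespace Cfsg.Agent.LeechCount.Co3Out

open Cfsg Cfsg.Agent.Leech Cfsg.Agent.Golay24 Cfsg.Agent.LeechCount.Co3Rank MulAction

noncomputable section

attribute [local irreducible] normFS dotFS

theorem eight_eq_sum (x : Vec) : (8 : ℤ) • x = ∑ i, x i • e8 i := by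
  funext j
  simp only [Pi.smul_apply, Finset.sum_apply, e8, smul_eq_mul, mul_ite, mul_zero, Finset.sum_ite_eq,
    Finset.mem_univ, if_true]
  ring

/-- Elements agreeing on the coordinate vectors are equal. -/
theorem ext_e8 {g h : ↥Co0} (H : ∀ i, ap g (e8 i) = ap h (e8 i)) : g = h := by
  have key : ∀ v : ↥leechLattice, coHom g v = coHom h v := by
    intro v
    have h8 : (8 : ℤ) • v = ∑ i, (v : Vec) i • (⟨e8 i, e8_mem i⟩ : ↥leechLattice) := by
      apply Subtype.ext
      push_cast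
      exact eight_eq_sum _
    have hh : ∀ i, coHom g ⟨e8 i, e8_mem i⟩ = coHom h ⟨e8 i, e8_mem i⟩ := fun i =>
      Subtype.ext ((ap_coe g ⟨e8 i, e8_mem i⟩).symm.trans ((H i).trans (ap_coe h ⟨e8 i, e8_mem i⟩)))
    have h1 := congrArg (coHom g) h8
    have h2 := congrArg (coHom h) h8
    simp only [map_sum, map_zsmul, hh] at h1 h2
    have h3 := congrArg Subtype.val (h1.trans h2.symm)
    push_cast at h3
    apply Subtype.ext
    funext j
    have h4 := congrFun h3 j
    simp only [Pi.smul_apply, smul_eq_mul] at h4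
    omega
  exact Subtype.ext (Equiv.ext fun v => key v)

/-- The coordinate permutations as automorphisms. -/
def permHom24 : ↥M24 →* ↥Co0 where
  toFun σ := permCo σ.1 σ.2
  map_one' := ext_e8 fun i => funext fun j => by
    rw [ap_permCo _ (e8_mem i), ap_one]; rfl
  map_mul' σ τ := ext_e8 fun i => funext fun j => by
    rw [ap_permCo _ (e8_mem i), ap_mul _ _ (e8_mem i), ap_permCo _ (ap_mem _ (e8_mem i)),
      ap_permCo _ (e8_mem i)]
    rfl

theorem permHom24_injective : Function.Injective permHom24 := fun σ τ h => by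
  apply Subtype.ext
  apply Equiv.ext
  intro i
  have h2 := congrFun (congrArg (fun g => ap g (e8 i)) h) (σ.1 i)
  simp only [permHom24, MonoidHom.coe_mk, OneHom.coe_mk, ap_permCo _ (e8_mem i), e8,
    Equiv.symm_apply_apply, if_true] at h2
  by_contra hne
  rw [if_neg (fun e => hne (by rw [← e, Equiv.apply_symm_apply, e]))] at h2
  omega

theorem vecV_perm {σ : Equiv.Perm GolayPt} (hσ : σ none = none) (i : GolayPt) :
    Spor.vecV (σ.symm i) = Spor.vecV i := by
  have : σ.symm i = none ↔ i = none := by rw [Equiv.symm_apply_eq, hσ]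
  simp [Spor.vecV, this]

/-- The stabiliser of the canonical vector. -/
def G3 : Subgroup ↥Co0 := stabilizer ↥Co0 U0

theorem mem_G3 {g : ↥Co0} : g ∈ G3 ↔ ap g Spor.vecV = Spor.vecV := smul_eq_iff_ap g U0 U0

theorem perm_mem_G3 {σ : Equiv.Perm GolayPt} (h : σ ∈ M24) (hσ : σ none = none) : permCo σ h ∈ G3 :=
  mem_G3.2 (funext fun i => by rw [ap_permCo h vecV_leech, vecV_perm hσ])

/-- The Mathieu group inside. -/
def iota : ↥Spor.M23 →* ↥G3 :=
  (permHom24.comp (Subgroup.inclusion inf_le_left)).codRestrict G3 fun σ => perm_mem_G3 σ.2.1 σ.2.2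

theorem iota_val (σ : ↥Spor.M23) : (iota σ : ↥Co0) = permCo σ.1 σ.2.1 := rfl

theorem iota_injective : Function.Injective iota := fun σ τ h =>
  Subtype.ext (Subtype.mk.inj (permHom24_injective
    (show permHom24 ⟨σ.1, σ.2.1⟩ = permHom24 ⟨τ.1, τ.2.1⟩ from congrArg Subtype.val h)))

theorem dLab_ok : sxOk dLab1 ∧ sxOk dLab2 ∧ sxOk dLab3 := by unfold sxOk; decide +kernel

theorem dPerm_ok : inM24 dPerm = true ∧ ∀ i, appPt dPerm (appPt dPermInv i) = i := by decide +kernel

theorem dSgn_inC : Leech.InC (Golay24.setOf dSgn) := mem_supports_iff_inCode.2 (by decide +kernel)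

/-- The involution as a function. -/
def dFun (z : Vec) : Vec :=
  (sxOfList dLab1 dLab_ok.1).xi ((sxOfList dLab2 dLab_ok.2.1).xi ((sxOfList dLab3 dLab_ok.2.2).xi
    fun i => if i ∈ Golay24.setOf dSgn then -z (appPt dPermInv i) else z (appPt dPermInv i)))

/-- The involution outside the frame stabiliser. -/
def dEl : ↥Co0 := (sxOfList dLab1 dLab_ok.1).xiCo * (sxOfList dLab2 dLab_ok.2.1).xiCo *
  (sxOfList dLab3 dLab_ok.2.2).xiCo * signCo (Golay24.setOf dSgn) dSgn_inC *
  permCo (toPerm dPerm) (toPerm_mem_M24 dPerm_ok.1)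

theorem ap_dEl {z : Vec} (hz : z ∈ leechLattice) : ap dEl z = dFun z := by
  have h1 := ap_mem (permCo (toPerm dPerm) (toPerm_mem_M24 dPerm_ok.1)) hz
  have h2 := ap_mem (signCo (Golay24.setOf dSgn) dSgn_inC) h1
  have h3 := (sxOfList dLab3 dLab_ok.2.2).xi_mem h2
  have h4 := (sxOfList dLab2 dLab_ok.2.1).xi_mem h3
  rw [dEl, ap_mul _ _ hz, ap_mul _ _ h1, ap_mul _ _ h2, Sx.ap_xiCo _ h2, ap_mul _ _ h3, Sx.ap_xiCo _ h3,
    Sx.ap_xiCo _ h4, dFun]
  congr 3
  funext i
  rw [ap_signCo dSgn_inC h1, ap_permCo _ hz]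
  have : (toPerm dPerm).symm i = appPt dPermInv i := by
    rw [Equiv.symm_apply_eq, toPerm_apply (valid_of_inM24 dPerm_ok.1), dPerm_ok.2]
  rw [this]

theorem dEl_mem : dEl ∈ G3 := mem_G3.2 (by rw [ap_dEl vecV_leech]; decide +kernel)

/-- The involution in the stabiliser. -/
def dG : ↥G3 := ⟨dEl, dEl_mem⟩

theorem dG_val : (dG : ↥Co0) = dEl := rfl

/-- An element of the Mathieu group from a packed permutation. -/
def mEl (p : ℕ) (h : (inM24 p && app p 23 == 23) = true) : ↥Spor.M23 := ⟨toPerm p, m23OutHyp.mem p h⟩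

theorem ap_perm_inv {p q : ℕ} (hp : inM24 p = true) (hq : ∀ i, appPt p (appPt q i) = i) {z : Vec}
    (hz : z ∈ leechLattice) :
    ap (permCo (toPerm p) (toPerm_mem_M24 hp)) z = fun i => z (appPt q i) := by
  funext i
  rw [ap_permCo _ hz]
  congr 1
  rw [Equiv.symm_apply_eq, toPerm_apply (valid_of_inM24 hp), hq]

theorem dEl_sq : dEl * dEl = 1 := ext_e8 fun i => by
  rw [ap_mul _ _ (e8_mem i), ap_one, ap_dEl (ap_mem _ (e8_mem i)), ap_dEl (e8_mem i)]
  revert i
  decide +kernel

end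

end Cfsg.Agent.LeechCount.Co3Out
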