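import Cfsg.Agent.Lib.LeechCount.Co3Out.Reach
import Cfsg.Agent.Lib.LeechCount.Co3Out.Tables
import Cfsg.Agent.Lib.LeechCount.Co3Out.Centraliser
import Cfsg.Agent.Lib.LeechCount.McLGroup

/-!
The two vector stabiliser is generated by a point stabiliser and one more element, the vector
stabiliser by the Mathieu group and one involution.
-/

set_option autoImplicit false

namespace Cfsg.Agent.LeechCount.Co3Out

open Cfsg Cfsg.Agent.Leech Cfsg.Agent.Golay24 Cfsg.Agent.LeechCount.Co3Rank MulAction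

noncomputable section

attribute [local irreducible] normFS dotFS

theorem vecU_leech : Spor.vecU ∈ leechLattice := AddSubgroup.subset_closure Spor.vecU_mem_leechSet

/-- The short vector. -/
def U1 : ↥leechLattice := ⟨Spor.vecU, vecU_leech⟩

/-- The third vector. -/
def W1 : ↥leechLattice := -U0 + -U1

/-- The stabiliser of the short vector inside. -/
def SM : Subgroup ↥G3 := (stabilizer ↥Co0 U1).subgroupOf G3

theorem mem_SM {g : ↥G3} : g ∈ SM ↔ ap (g : ↥Co0) Spor.vecU = Spor.vecU := smul_eq_iff_ap _ U1 U1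

theorem inf_eq : G3 ⊓ stabilizer ↥Co0 U1 = stabilizer ↥Co0 U1 ⊓ stabilizer ↥Co0 W1 := by
  ext g
  simp only [Subgroup.mem_inf, G3, MulAction.mem_stabilizer_iff, W1]
  have e : g • (-U0 + -U1) = -(g • U0) + -(g • U1) := by
    rw [co0_smul_add, co0_smul_neg, co0_smul_neg]
  rw [e]
  constructor
  · rintro ⟨h1, h2⟩; exact ⟨h2, by rw [h1, h2]⟩
  · rintro ⟨h2, h3⟩
    rw [h2] at h3
    exact ⟨neg_injective (add_right_cancel h3), h2⟩

theorem card_G3 : Nat.card ↥G3 = 495766656000 := card_stab48 U0 vecV_norm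

theorem card_SM : Nat.card ↥SM = 898128000 := by
  rw [SM, ← Subgroup.inf_subgroupOf_left, Nat.card_congr (Subgroup.subgroupOfEquivOfLe inf_le_left).toEquiv,
    inf_eq]
  refine card_mcl ?_ ?_ ?_ <;>
    (first | show sqNorm Spor.vecU = 32 | show sqNorm (-Spor.vecV + -Spor.vecU) = 32
           | show dotInt Spor.vecU (-Spor.vecV + -Spor.vecU) = -8) <;> decide +kernel

theorem co0_finite : Finite ↥Co0 := Nat.finite_of_card_ne_zero (by rw [co0_card]; norm_num)

instance : Finite ↥G3 := have := co0_finite; inferInstance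

/-- The point stabiliser inside. -/
def iota22 : ↥Spor.M22 →* ↥G3 := iota.comp (Subgroup.inclusion inf_le_left)

theorem iota22_injective : Function.Injective iota22 :=
  iota_injective.comp (Subgroup.inclusion_injective _)

/-- The generators of degree 22. -/
abbrev hA : ↥G3 := iota22 m22OutHyp.A
/-- The generators of degree 22. -/
abbrev hB : ↥G3 := iota22 m22OutHyp.B
/-- The generators of degree 22. -/
abbrev hC : ↥G3 := iota22 m22OutHyp.C

theorem iota22_mem_SM (σ : ↥Spor.M22) : iota22 σ ∈ SM := mem_SM.2 (funext fun i => by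
  show ap (permCo σ.1 σ.2.1.1) Spor.vecU i = _
  rw [ap_permCo _ vecU_leech]
  have h0 : σ.1.symm i = none ↔ i = none := by rw [Equiv.symm_apply_eq, show σ.1 none = none from σ.2.1.2]
  have h1 : σ.1.symm i = some 0 ↔ i = some 0 := by
    rw [Equiv.symm_apply_eq, show σ.1 (some 0) = some 0 from σ.2.2]
  simp [Spor.vecU, h0, h1])

/-- The subgroup generated by the point stabiliser and one word. -/
def KM : Subgroup ↥G3 := Subgroup.closure ({hA, hB, hC, wEl zW1} : Set ↥G3)

/-- The subgroup generated by the Mathieu group and the involution. -/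
def K3 : Subgroup ↥G3 := Subgroup.closure ({gA, gB, gC, dG} : Set ↥G3)

theorem iota_mem_K3 (σ : ↥Spor.M23) : iota σ ∈ K3 := by
  have h : σ ∈ Subgroup.comap iota K3 := by
    have hle : Subgroup.closure {m23OutHyp.A, m23OutHyp.B, m23OutHyp.C} ≤ Subgroup.comap iota K3 := by
      rw [Subgroup.closure_le]
      rintro x (rfl | rfl | rfl) <;> exact Subgroup.subset_closure (by simp [gA, gB, gC])
    exact hle (by rw [m23OutHyp.gen_top]; trivial)
  exact h

theorem iota22_mem_KM (σ : ↥Spor.M22) : iota22 σ ∈ KM := by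
  have h : σ ∈ Subgroup.comap iota22 KM := by
    have hle : Subgroup.closure {m22OutHyp.A, m22OutHyp.B, m22OutHyp.C} ≤ Subgroup.comap iota22 KM := by
      rw [Subgroup.closure_le]
      rintro x (rfl | rfl | rfl) <;> exact Subgroup.subset_closure (by simp [hA, hB, hC])
    exact hle (by rw [m22OutHyp.gen_top]; trivial)
  exact h

theorem el_mem_K3 : ∀ {w : List Stp}, wEl w ∈ K3
  | [] => K3.one_mem
  | s :: w => by
    rw [show wEl (s :: w) = s.el * wEl w from List.prod_cons]
    refine K3.mul_mem ?_ el_mem_K3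
    cases s with
    | d => exact Subgroup.subset_closure (by simp [Stp.el])
    | perm p q =>
      simp only [Stp.el]
      split
      · exact iota_mem_K3 _
      · exact K3.one_mem

theorem zW_ok : wOk zW1 = true ∧ wOk zW2 = true ∧ wOk zW3 = true ∧ wOk zW4 = true := by decide +kernel

theorem vecU_list : vecOf (lstN (getSlot 96 co3Tab 0)) = Spor.vecU := by
  rw [vecOf_lstN]; decide +kernel

theorem zW1_fixU : wL zW1 (lstN (getSlot 96 co3Tab 0)) = lstN (getSlot 96 co3Tab 0) := by decide +kernel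

theorem zW1_mem_SM : wEl zW1 ∈ SM := mem_SM.2 (by
  rw [← vecU_list, ap_wEl zW_ok.1 (vecU_list ▸ vecU_leech), zW1_fixU])

theorem KM_le_SM : KM ≤ SM := by
  rw [KM, Subgroup.closure_le]
  rintro x (rfl | rfl | rfl | rfl)
  exacts [iota22_mem_SM _, iota22_mem_SM _, iota22_mem_SM _, zW1_mem_SM]

/-- The generators of the point stabiliser, packed. -/
def gens22 : List ℕ := [m22Out.a, m22Out.b, m22Out.c]

theorem gens22_ok : ∀ g ∈ gens22, ∃ h : (inM24 g && app g 23 == 23) = true, iota (mEl g h) ∈ KM := by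
  intro g hg
  have h : ∀ g ∈ gens22, (inM24 g && app g 23 == 23) = true ∧ app g 0 = 0 := by decide +kernel
  obtain ⟨h1, h2⟩ := h g hg
  refine ⟨h1, ?_⟩
  have h3 : toPerm g ∈ Spor.M22 := m22OutHyp.mem g (by
    simp only [Bool.and_eq_true, beq_iff_eq] at h1
    simp [m22OutHyp, h1.1, h1.2, h2])
  exact iota22_mem_KM ⟨toPerm g, h3⟩

theorem e8_list : vecOf (e8L 23) = e8 none := e8L_eq none

theorem zW1_e : wL zW1 (e8L 23) = lstN (getSlot 96 mclTab 0) := by decide +kernel

theorem mclTab_ok : tabOk gens22 [zW1] mclTab mclTree mclSrt = true ∧ mclTree.length = 2023 := by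
  decide +kernel

theorem mcl_first : vecN (getSlot 96 mclTab 0) = ap (wEl zW1 : ↥Co0) (e8 none) := by
  rw [← e8_list, ap_wEl zW_ok.1 (e8_list ▸ e8_mem none), zW1_e, vecOf_lstN]

theorem mcl_reach : (tabFS mclTab mclSrt).card = 2024 ∧
    (∀ y ∈ tabFS mclTab mclSrt, Reach KM (e8 none) y) ∧
    ∀ k < 2024, Reach KM (e8 none) (vecN (getSlot 96 mclTab k)) := by
  have hz : wEl zW1 ∈ KM := Subgroup.subset_closure (by simp)
  have h1 : Reach KM (e8 none) (vecN (getSlot 96 mclTab 0)) := ⟨_, hz, mcl_first.symm⟩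
  have hspec := tab_spec (K := KM) gens22_ok (links := [zW1]) (fun w hw => by
    rw [List.mem_singleton] at hw; subst hw; exact ⟨zW_ok.1, hz⟩) (h1.mem (e8_mem none)) mclTab_ok.1
  obtain ⟨hc, hr, hk⟩ := hspec
  rw [mclTab_ok.2] at hc hk
  exact ⟨hc, fun y hy => h1.trans (e8_mem none) (hr y hy), fun k h => h1.trans (e8_mem none) (hk k h)⟩

theorem e8_notMem : e8 none ∉ tabFS mclTab mclSrt := fun h => by
  rw [tabFS, List.mem_toFinset, List.mem_map] at h
  obtain ⟨k, -, hk⟩ := h
  have := congrFun hk none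
  simp only [vecN, e8, if_true] at this
  have hlt : getSlot 4 (getSlot 96 mclTab k) (idx (none : GolayPt)).val < 16 :=
    Nat.lt_succ_of_le Nat.and_le_right
  omega

/-- The 2025 points. -/
def pts25 : Finset Vec := insert (e8 none) (tabFS mclTab mclSrt)

theorem pts25_card : pts25.card = 2025 := by
  rw [pts25, Finset.card_insert_of_notMem e8_notMem, mcl_reach.1]

theorem range22_fix : ∀ s ∈ iota22.range, ap (s : ↥Co0) (e8 none) = e8 none := by
  rintro _ ⟨σ, rfl⟩; exact e8_fixed _

theorem pts25_reach : ∀ y ∈ pts25, Reach KM (e8 none) y := by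
  intro y hy
  rcases Finset.mem_insert.1 hy with rfl | hy
  · exact Reach.refl _ _
  · exact mcl_reach.2.1 y hy

theorem card_range22 : Nat.card ↥iota22.range = 443520 := by
  rw [← Nat.card_congr (MonoidHom.ofInjective iota22_injective).toEquiv, card_M22]

theorem range22_le : iota22.range ≤ KM := by rintro _ ⟨σ, rfl⟩; exact iota22_mem_KM σ

theorem KM_eq : KM = SM := by
  refine Subgroup.eq_of_le_of_card_ge KM_le_SM ?_
  rw [card_SM]
  have := count_le range22_le (e8_mem none) range22_fix pts25 pts25_reach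
  rwa [pts25_card, card_range22] at this

theorem co3Tab_ok : tabOk [m23Out.a, m23Out.b, m23Out.c] [[Stp.d]] co3Tab co3Tree co3Srt = true ∧
    co3Tree.length = 551 := by
  decide +kernel

theorem K3_reach : (tabFS co3Tab co3Srt).card = 552 ∧ (∀ y ∈ tabFS co3Tab co3Srt, Reach K3 Spor.vecU y) ∧
    ∀ k < 552, Reach K3 Spor.vecU (vecN (getSlot 96 co3Tab k)) := by
  have hg : ∀ g ∈ [m23Out.a, m23Out.b, m23Out.c],
      ∃ h : (inM24 g && app g 23 == 23) = true, iota (mEl g h) ∈ K3 := fun g hg =>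
    ⟨(show ∀ g ∈ [m23Out.a, m23Out.b, m23Out.c], (inM24 g && app g 23 == 23) = true by decide +kernel) g hg,
      iota_mem_K3 _⟩
  have hl : ∀ w ∈ [[Stp.d]], wOk w = true ∧ wEl w ∈ K3 := fun w hw => by
    rw [List.mem_singleton] at hw; subst hw; exact ⟨rfl, el_mem_K3⟩
  have e : vecN (getSlot 96 co3Tab 0) = Spor.vecU := (vecOf_lstN _).symm.trans vecU_list
  obtain ⟨hc, hr, hk⟩ := tab_spec hg hl (e ▸ vecU_leech) co3Tab_ok.1
  rw [co3Tab_ok.2] at hc hk
  rw [e] at hr hk
  exact ⟨hc, hr, hk⟩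

theorem KM_le_K3 : KM ≤ K3 := by
  rw [KM, Subgroup.closure_le]
  rintro x (rfl | rfl | rfl | rfl)
  exacts [iota_mem_K3 _, iota_mem_K3 _, iota_mem_K3 _, el_mem_K3]

/-- Generation of the vector stabiliser. -/
theorem K3_top : K3 = ⊤ := by
  refine Subgroup.eq_top_of_le_card _ ?_
  rw [card_G3]
  have := count_le (KM_eq ▸ KM_le_K3) vecU_leech (fun s hs => mem_SM.1 hs) _ K3_reach.2.1
  rwa [K3_reach.1, card_SM] at this

/-- An element exchanging the two short vectors. -/
theorem exists_swap : ∃ t : ↥G3, ap (t : ↥Co0) Spor.vecU = -Spor.vecV + -Spor.vecU := by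
  obtain ⟨g, -, hg⟩ := K3_reach.2.2 23 (by norm_num)
  refine ⟨g, hg.trans ?_⟩
  decide +kernel

end

end Cfsg.Agent.LeechCount.Co3Out
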