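import Cfsg.Agent.Lib.LeechCount.Co3Out.Gen

/-!
The frozen vector stabilisers as subgroups of the automorphism group, and the invariance of the outer
automorphism group under isomorphism.
-/

set_option autoImplicit false

namespace Cfsg.Agent.LeechCount.Co3Out

open Cfsg Cfsg.Agent.Leech Cfsg.Agent.Golay24 Cfsg.Agent.LeechCount.Co3Rank MulAction

noncomputable section

attribute [local irreducible] normFS dotFS

theorem card_out_congr {G H : Type*} [Group G] [Group H] (e : G ≃* H) :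
    Nat.card (Cfsg.Out G) = Nat.card (Cfsg.Out H) := by
  refine Nat.card_congr (QuotientGroup.congr (Inn G) (Inn H) (MulAut.congr e) ?_).toEquiv
  ext f
  constructor
  · rintro ⟨_, ⟨g, rfl⟩, rfl⟩
    exact ⟨e g, MulEquiv.ext fun x => by simp [MulAut.congr, MulAut.conj_apply]⟩
  · rintro ⟨h, rfl⟩
    exact ⟨MulAut.conj (e.symm h), ⟨e.symm h, rfl⟩,
      MulEquiv.ext fun x => by simp [MulAut.congr, MulAut.conj_apply]⟩

theorem co3_subgroupOf : Spor.Co3.subgroupOf Co0 = G3 := by
  ext g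
  constructor
  · intro h
    exact (Subgroup.mem_inf.1 (Subgroup.mem_subgroupOf.1 h)).2
  · intro h
    exact Subgroup.mem_subgroupOf.2 (Subgroup.mem_inf.2 ⟨g.2, h⟩)

/-- The frozen group as the stabiliser. -/
def co3Equiv : ↥Spor.Co3 ≃* ↥G3 :=
  (Subgroup.subgroupOfEquivOfLe (show Spor.Co3 ≤ Co0 from inf_le_left)).symm.trans
    (MulEquiv.subgroupCongr co3_subgroupOf)

theorem co3Equiv_val (g : ↥Spor.Co3) : (((co3Equiv g : ↥G3) : ↥Co0) : Equiv.Perm ↥leechLattice) = g := rfl

theorem mcl_subgroupOf : (Spor.McL.subgroupOf Spor.Co3).map co3Equiv.toMonoidHom = SM := by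
  ext g
  constructor
  · rintro ⟨x, hx, rfl⟩
    exact (Subgroup.mem_inf.1 (Subgroup.mem_subgroupOf.1 hx)).2
  · intro h
    exact ⟨co3Equiv.symm g, Subgroup.mem_subgroupOf.2 (Subgroup.mem_inf.2 ⟨(co3Equiv.symm g).2, h⟩),
      co3Equiv.apply_symm_apply g⟩

/-- The frozen group as the pair stabiliser. -/
def mclEquiv : ↥Spor.McL ≃* ↥SM :=
  (Subgroup.subgroupOfEquivOfLe (show Spor.McL ≤ Spor.Co3 from inf_le_left)).symm.trans
    ((co3Equiv.subgroupMap (Spor.McL.subgroupOf Spor.Co3)).trans (MulEquiv.subgroupCongr mcl_subgroupOf))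

end

end Cfsg.Agent.LeechCount.Co3Out
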