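import Cfsg.Agent.Lib.LeechCount.Co3Out.Gen
import Cfsg.Agent.Lib.LeechCount.Co3Out.Rels

/-!
The elements of the two vector stabiliser normalising given elements of order 11 and 5.
-/

set_option autoImplicit false

namespace Cfsg.Agent.LeechCount.Co3Out

open Cfsg Cfsg.Agent.Leech Cfsg.Agent.Golay24 Cfsg.Agent.LeechCount.Co3Rank MulAction

noncomputable section

attribute [local irreducible] normFS dotFS

/-- An element of the pair stabiliser fixing the coordinate vector. -/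
theorem mem_range22 {g : ↥G3} (hg : g ∈ SM) (he : ap (g : ↥Co0) (e8 none) = e8 none) :
    ∃ σ, g = iota22 σ := by
  obtain ⟨σ, rfl⟩ := mem_iota_of_fix he
  have h := mem_SM.1 hg
  rw [iota_val] at h
  have h0 := congrFun h (σ.1 (some 0))
  rw [ap_permCo _ vecU_leech, Equiv.symm_apply_apply] at h0
  have hn : σ.1 none = none := σ.2.2
  have hfix : σ.1 (some 0) = some 0 := by
    by_contra hne
    have hne' : σ.1 (some 0) ≠ none := fun e => by simpa using σ.1.injective (e.trans hn.symm)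
    simp [Spor.vecU, hne, hne'] at h0
  exact ⟨⟨σ.1, σ.2, hfix⟩, rfl⟩

/-- Every image of the coordinate vector is among the 2025 points. -/
theorem image_mem {g : ↥G3} (hg : g ∈ SM) : ap (g : ↥Co0) (e8 none) ∈ pts25 := by
  classical
  by_contra hy
  have h := count_le (KM_eq ▸ range22_le) (e8_mem none) range22_fix (insert (ap (g : ↥Co0) (e8 none)) pts25)
    fun y hy' => by
      rcases Finset.mem_insert.1 hy' with rfl | hy'
      · exact ⟨g, hg, rfl⟩
      · obtain ⟨k, hk, hk'⟩ := pts25_reach y hy'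
        exact ⟨k, KM_eq ▸ hk, hk'⟩
  rw [Finset.card_insert_of_notMem hy, pts25_card, card_range22, card_SM] at h
  omega

/-- The code of a member is fixed by a packed permutation. -/
def fixB (p k : ℕ) : Bool := edgeB p (getSlot 96 mclTab k) (getSlot 96 mclTab k)

theorem fixed_member {p : ℕ} (hp : inM24 p = true) {y : Vec} (hy : y ∈ pts25) (hym : y ∈ leechLattice)
    (hf : ap (permCo (toPerm p) (toPerm_mem_M24 hp)) y = y) :
    y = e8 none ∨ ∃ k < 2024, fixB p k = true ∧ y = vecN (getSlot 96 mclTab k) := by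
  rcases Finset.mem_insert.1 hy with h | h
  · exact Or.inl h
  refine Or.inr ?_
  rw [tabFS, List.mem_toFinset, List.mem_map] at h
  obtain ⟨k, hk, rfl⟩ := h
  have hk' : k < 2024 :=
    (show ∀ k ∈ mclSrt, k < 2024 by decide +kernel) k hk
  refine ⟨k, hk', ?_, rfl⟩
  rw [fixB, edgeB, List.all_eq_true]
  intro i hi
  rw [List.mem_range] at hi
  have h2 := fixed_app hp hym hf (ptN i)
  simp only [vecN, appPt, idx_pt, idx_ptN hi] at h2
  have hlt : app p i < 24 := app_lt (valid_of_inM24 hp) ⟨i, hi⟩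
  rw [Nat.mod_eq_of_lt hlt] at h2
  rw [beq_iff_eq]
  omega

theorem scan_a : ∀ k < 2024, fixB m22Out.a k = false := by decide +kernel

theorem scan_b : ∀ k < 2024, fixB m22Out.b k = true → k ∈ mclFix := by decide +kernel

theorem ab_inM24 : inM24 m22Out.a = true ∧ inM24 m22Out.b = true := by decide +kernel

theorem hA_val : (hA : ↥Co0) = permCo (toPerm m22Out.a) (toPerm_mem_M24 ab_inM24.1) := rfl

theorem hB_val : (hB : ↥Co0) = permCo (toPerm m22Out.b) (toPerm_mem_M24 ab_inM24.2) := rfl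

theorem hA_order : orderOf hA = 11 := by
  rw [hA, orderOf_injective iota22 iota22_injective, (outHyp_rels m22OutHyp).1]; rfl

theorem hA_rel : hB * hA = hA ^ 3 * hB := by
  rw [hA, hB, ← map_pow, ← map_mul, ← map_mul]; exact congrArg iota22 (outHyp_rels m22OutHyp).2.1

theorem hB_rel : hC * hB = hB ^ 2 * hC := by
  rw [hB, hC, ← map_pow, ← map_mul, ← map_mul]; exact congrArg iota22 (outHyp_rels m22OutHyp).2.2.1

/-- The normaliser of the element of order 11. -/
theorem normaliser_hA {g : ↥G3} (hgS : g ∈ SM) (hg : g * hA = hA ^ 3 * g) :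
    ∃ j : ℕ, hA ^ j * g = hB * hA ^ j := by
  have hfix := fixed_of_rel hg (e8_mem none) (e8_fixed _)
  have h24 : hA = (hA ^ 3) ^ 4 := by
    rw [← pow_mul, show 3 * 4 = 11 + 1 by norm_num, pow_succ, ← hA_order, pow_orderOf_eq_one, one_mul]
  have h1 : ap (hA : ↥Co0) (ap (g : ↥Co0) (e8 none)) = ap (g : ↥Co0) (e8 none) := by
    rw [h24]; exact pow_fix (ap_mem _ (e8_mem none)) hfix 4
  rw [hA_val] at h1
  rcases fixed_member ab_inM24.1 (image_mem hgS) (ap_mem _ (e8_mem none)) h1 with he | ⟨k, hk, hkf, -⟩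
  · obtain ⟨σ, rfl⟩ := mem_range22 hgS he
    obtain ⟨j, hj⟩ := (outHyp_rels m22OutHyp).2.2.2.1 σ (show σ * m22OutHyp.A = m22OutHyp.A ^ 3 * σ from
      iota22_injective (by simpa [hA] using hg))
    refine ⟨j, ?_⟩
    rw [hA, hB, ← map_pow, ← map_mul, ← map_mul]
    exact congrArg iota22 hj
  · rw [scan_a k hk] at hkf
    exact absurd hkf Bool.false_ne_true

/-- A packed permutation as a letter, with its inverse read off. -/
def invP (p : ℕ) : ℕ := ((List.range 24).map fun i => (i : ℕ) * 2 ^ (5 * (app p i))).sum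

/-- The letter of a packed permutation. -/
def stOf (p : ℕ) : Stp := .perm p (invP p)

theorem st_ok : (stOf m22Out.a).ok = true ∧ (stOf m22Out.b).ok = true ∧ (stOf m22Out.c).ok = true := by
  decide +kernel

theorem wEl_stOf {p : ℕ} (h : (stOf p).ok = true) (hp : m22OutHyp.inH p = true) :
    wEl [stOf p] = iota22 ⟨toPerm p, m22OutHyp.mem p hp⟩ := by
  obtain ⟨h', he⟩ := Stp.el_perm h
  rw [wEl, List.map_cons, List.map_nil, List.prod_cons, List.prod_nil, mul_one, stOf, he]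
  rfl

theorem wEl_ab : wEl [stOf m22Out.a] = hA ∧ wEl [stOf m22Out.b] = hB ∧ wEl [stOf m22Out.c] = hC :=
  ⟨wEl_stOf st_ok.1 m22OutHyp.inH_a, wEl_stOf st_ok.2.1 m22OutHyp.inH_b,
    wEl_stOf st_ok.2.2 m22OutHyp.inH_c⟩

/-- Representatives for the centraliser of the element of order 5 modulo the point stabiliser. -/
def zW (j : Fin 5) : List Stp := wPow zW1 j.val

theorem zW1_check : wEqB (zW1 ++ [stOf m22Out.b]) ([stOf m22Out.b] ++ zW1) = true := by decide +kernel

theorem zW_wOk (j : Fin 5) : wOk (zW j) = true := wOk_pow zW_ok.1 _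

theorem zW_reach : ∀ k ∈ mclFix, ∃ j : Fin 5, wL (zW j) (e8L 23) = lstN (getSlot 96 mclTab k) := by
  decide +kernel

theorem zW_comm (j : Fin 5) : wEl (zW j) * hB = hB * wEl (zW j) := by
  have h := wEl_eq zW1_check
  rw [wEl_append, wEl_append, wEl_ab.2.1] at h
  rw [zW, wEl_pow]
  exact (Commute.pow_left h _).eq

theorem zW_SM (j : Fin 5) : wEl (zW j) ∈ SM := by
  rw [zW, wEl_pow]; exact SM.pow_mem zW1_mem_SM _

theorem sols22 : ∀ g0 ∈ m22Out.cB.sols, validP g0 = true ∧ ∃ i : Fin 5,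
    compP g0 idP = compP (compP (powP m22Out.b (i.val + 1)) m22Out.c) idP := by
  decide +kernel

theorem cent22 (σ : ↥Spor.M22) (h : σ * m22OutHyp.B = m22OutHyp.B * σ) :
    ∃ i : Fin 5, σ = m22OutHyp.B ^ (i.val + 1) := by
  obtain ⟨-, -, hcb, -, hB⟩ := outHyp_rels m22OutHyp
  have hrel : σ * m22OutHyp.C * m22OutHyp.B = m22OutHyp.B ^ m22Out.s * (σ * m22OutHyp.C) := by
    have hc : Commute σ (m22OutHyp.B ^ m22Out.s) := Commute.pow_right h _
    rw [mul_assoc, hcb, ← mul_assoc, hc.eq, mul_assoc]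
  obtain ⟨g0, hg0, he0⟩ := hB _ hrel
  obtain ⟨hgv, i, hi⟩ := sols22 g0 hg0
  obtain ⟨hpv, hpp⟩ := toPerm_powP' (valid_of_inM24 ab_inM24.2) (show 0 < i.val + 1 by omega)
  have hcv : validP m22Out.c = true := by decide +kernel
  refine ⟨i, mul_right_cancel (b := m22OutHyp.C) (Subtype.ext ?_)⟩
  have e := congrArg toPerm hi
  rw [toPerm_compP hgv idP_spec.1, toPerm_compP (validP_compP hpv hcv) idP_spec.1, toPerm_idP, mul_one,
    mul_one, toPerm_compP hpv hcv, ← he0, hpp] at e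
  simp only [Subgroup.coe_mul, Subgroup.coe_pow,
    show (m22OutHyp.B : Equiv.Perm GolayPt) = toPerm m22Out.b from rfl,
    show (m22OutHyp.C : Equiv.Perm GolayPt) = toPerm m22Out.c from rfl] at e ⊢
  exact e

/-- The centraliser of the element of order 5. -/
theorem centraliser_hB {g : ↥G3} (hgS : g ∈ SM) (hg : g * hB = hB * g) :
    ∃ (j : Fin 5) (i : Fin 5), g = wEl (zW j) * hB ^ (i.val + 1) := by
  have h1 := fixed_of_rel hg (e8_mem none) (e8_fixed _)
  rw [hB_val] at h1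
  have hy : ∃ j : Fin 5, ap (wEl (zW j) : ↥Co0) (e8 none) = ap (g : ↥Co0) (e8 none) := by
    rcases fixed_member ab_inM24.2 (image_mem hgS) (ap_mem _ (e8_mem none)) h1 with he | ⟨k, hk, hkf, he⟩
    · exact ⟨0, by rw [he]; exact ap_one _⟩
    · obtain ⟨j, hj⟩ := zW_reach k (scan_b k hk hkf)
      refine ⟨j, ?_⟩
      rw [he, ← e8_list, ap_wEl (zW_wOk j) (e8_list ▸ e8_mem none), hj, vecOf_lstN]
  obtain ⟨j, hj⟩ := hy
  have hfix : ap (((wEl (zW j))⁻¹ * g : ↥G3) : ↥Co0) (e8 none) = e8 none := by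
    rw [Subgroup.coe_mul, ap_mul _ _ (e8_mem none), ← hj, Subgroup.coe_inv, ap_inv_ap _ (e8_mem none)]
  obtain ⟨σ, hσ⟩ := mem_range22 (SM.mul_mem (SM.inv_mem (zW_SM j)) hgS) hfix
  have hcomm : Commute (iota22 σ) hB := by
    rw [← hσ]; exact Commute.mul_left (Commute.inv_left (zW_comm j)) hg
  obtain ⟨i, hi⟩ := cent22 σ (iota22_injective (by simpa using hcomm.eq))
  refine ⟨j, i, ?_⟩
  rw [hB, ← map_pow, ← hi, ← hσ, mul_inv_cancel_left]

theorem B22_val : (m22OutHyp.B : Equiv.Perm GolayPt) = toPerm m22Out.b := rfl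

theorem B22_pow5 : m22OutHyp.B ^ 5 = 1 := by
  have hchk : isIdP (powP m22Out.b 5) = true := by decide +kernel
  obtain ⟨hv, he⟩ := toPerm_powP' (valid_of_inM24 ab_inM24.2) (by norm_num : 0 < 5)
  apply Subtype.ext
  rw [Subgroup.coe_pow, B22_val, ← he, toPerm_eq_one_of_isIdP hv hchk, OneMemClass.coe_one]

/-- The elements inducing the square on the element of order 5. -/
theorem normaliser_hB {g : ↥G3} (hgS : g ∈ SM) (hg : g * hB = hB ^ 2 * g) :
    ∃ (j : Fin 5) (i : Fin 5), g = wEl (zW j) * hB ^ (i.val + 1) * hC := by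
  have hcomm : g * hC⁻¹ * hB = hB * (g * hC⁻¹) := by
    have hs : hB = (hB ^ 2) ^ 3 := by
      have hb5 : hB ^ 5 = 1 := by
        rw [hB, ← map_pow, B22_pow5, map_one]
      rw [← pow_mul, show 2 * 3 = 5 + 1 by norm_num, pow_succ, hb5, one_mul]
    have h1 : hC⁻¹ * hB = hB ^ 3 * hC⁻¹ := by
      have e : hC * hB ^ 3 * hC⁻¹ = hB := by
        rw [← conj_pow, show hC * hB * hC⁻¹ = hB ^ 2 by rw [hB_rel, mul_inv_cancel_right], ← hs]
      calc hC⁻¹ * hB = hC⁻¹ * (hC * hB ^ 3 * hC⁻¹) := by rw [e]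
        _ = hB ^ 3 * hC⁻¹ := by group
    have h2 : g * hB ^ 3 = hB * g := by
      have e : g * hB * g⁻¹ = hB ^ 2 := by rw [hg, mul_inv_cancel_right]
      calc g * hB ^ 3 = g * hB ^ 3 * g⁻¹ * g := by group
        _ = (g * hB * g⁻¹) ^ 3 * g := by rw [conj_pow]
        _ = hB * g := by rw [e, ← hs]
    rw [mul_assoc, h1, ← mul_assoc, h2, mul_assoc]
  obtain ⟨j, i, hi⟩ := centraliser_hB (SM.mul_mem hgS (SM.inv_mem (iota22_mem_SM _))) hcomm
  exact ⟨j, i, by rw [← hi, inv_mul_cancel_right]⟩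

end

end Cfsg.Agent.LeechCount.Co3Out
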