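import Cfsg.Agent.Lib.LeechCount.Co3Out.PairCentraliser
import Cfsg.Agent.Lib.LeechCount.Co3Out.ActTables

/-!
The relations distinguishing the two possible images of the generators of the pair stabiliser.
-/

set_option autoImplicit false

namespace Cfsg.Agent.LeechCount.Co3Out

open Cfsg Cfsg.Agent.Leech Cfsg.Agent.Golay24 Cfsg.Agent.LeechCount.Co3Rank MulAction

noncomputable section

attribute [local irreducible] normFS dotFS

theorem tblABC_ok : permTblB m22Out.a tblA = true ∧ permTblB m22Out.b tblB = true ∧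
    permTblB m22Out.c tblC = true := by
  decide +kernel

theorem acts_gen {p T : ℕ} (hp : m22OutHyp.inH p = true) (hT : permTblB p T = true) :
    Acts (iota22 ⟨toPerm p, m22OutHyp.mem p hp⟩) (lk T) := by
  have h' : (inM24 p && app p 23 == 23) = true := by
    simp only [permTblB, Bool.and_eq_true] at hT
    simp only [Bool.and_eq_true]
    exact hT.1
  exact Acts.of_perm hT h'

theorem acts_hA : Acts hA (lk tblA) := acts_gen m22OutHyp.inH_a tblABC_ok.1

theorem acts_hB : Acts hB (lk tblB) := acts_gen m22OutHyp.inH_b tblABC_ok.2.1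

theorem acts_hC : Acts hC (lk tblC) := acts_gen m22OutHyp.inH_c tblABC_ok.2.2

/-- The packed permutations of the extra word. -/
def zp (k : ℕ) : ℕ := zPerms.getD k 0

theorem zW1_shape : zW1.map (fun s => match s with | .perm p _ => p | .d => 0) = [zp 0, 0, zp 1, 0, zp 2] := by
  decide +kernel

theorem tblM_ok : permTblB (zp 0) tblM1 = true ∧ permTblB (zp 1) tblM2 = true ∧ permTblB (zp 2) tblM3 = true := by
  decide +kernel

theorem tblZ_eq : ∀ i < 552, lk tblZ i = lk tblM1 (lk tblD (lk tblM2 (lk tblD (lk tblM3 i)))) := by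
  decide +kernel

theorem acts_step {p q T : ℕ} (hs : (Stp.perm p q).ok = true) (hT : permTblB p T = true) :
    Acts (Stp.perm p q).el (lk T) := by
  obtain ⟨h', he⟩ := Stp.el_perm hs
  rw [he]
  exact Acts.of_perm hT h'

theorem acts_zW1 : Acts (wEl zW1) (lk tblZ) := by
  obtain ⟨⟨p1, q1, p2, q2, p3, q3, e⟩, ok⟩ : (∃ p1 q1 p2 q2 p3 q3,
      zW1 = [Stp.perm p1 q1, Stp.d, Stp.perm p2 q2, Stp.d, Stp.perm p3 q3]) ∧ wOk zW1 = true :=
    ⟨⟨_, _, _, _, _, _, rfl⟩, zW_ok.1⟩
  have hs := zW1_shape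
  rw [e] at hs ok
  simp only [List.map_cons, List.map_nil, List.cons.injEq, and_true, true_and] at hs
  obtain ⟨h1, h2, h3⟩ := hs
  subst h1 h2 h3
  simp only [wOk, List.all_cons, List.all_nil, Bool.and_eq_true, and_true] at ok
  have h := (acts_step ok.1 tblM_ok.1).mul (acts_d.mul ((acts_step ok.2.2.1 tblM_ok.2.1).mul
    (acts_d.mul (acts_step ok.2.2.2.2 tblM_ok.2.2))))
  refine (?_ : Acts (wEl zW1) _).congr tblZ_eq
  rw [e]
  simpa [wEl, Stp.el] using h

/-- An element centralising the second generator. -/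
def zEl (j i : Fin 5) : ↥G3 := wEl (zW j) * hB ^ (i.val + 1)

/-- Its action. -/
def zFn (j i : Fin 5) : ℕ → ℕ := fun t => (lk tblZ)^[j.val] ((lk tblB)^[i.val + 1] t)

theorem acts_zEl (j i : Fin 5) : Acts (zEl j i) (zFn j i) := by
  rw [zEl, zW, wEl_pow]
  exact (acts_zW1.pow _).mul (acts_hB.pow _)

/-- The action of a power of the first generator. -/
def aFn (kk : ℕ) : ℕ → ℕ := (lk tblA)^[kk]

/-- An element inducing the square on the second generator. -/
def cEl (j i : Fin 5) : ↥G3 := zEl j i * hC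

/-- Its action. -/
def cFn (j i : Fin 5) : ℕ → ℕ := fun t => zFn j i (lk tblC t)

theorem acts_cEl (j i : Fin 5) : Acts (cEl j i) (cFn j i) := (acts_zEl j i).mul acts_hC

/-- First relation. -/
def rel1 {M : Type*} [Monoid M] (a c : M) : M := (a * c) ^ 5

/-- Second relation. -/
def rel2 {M : Type*} [Monoid M] (a c : M) : M := (a * (a * c)) ^ 7

/-- Third relation. -/
def rel3 {M : Type*} [Monoid M] (a c d : M) : M := (a * (a * (c * (c * (a * (c * d)))))) ^ 4

/-- Fourth relation. -/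
def rel4 {M : Type*} [Monoid M] (a c d : M) : M := (a * (a * (a * (d * (a * c))))) ^ 5

/-- The action of the first relation. -/
def fn1 (a c : ℕ → ℕ) : ℕ → ℕ := (fun t => a (c t))^[5]

/-- The action of the second relation. -/
def fn2 (a c : ℕ → ℕ) : ℕ → ℕ := (fun t => a (a (c t)))^[7]

/-- The action of the third relation. -/
def fn3 (a c d : ℕ → ℕ) : ℕ → ℕ := (fun t => a (a (c (c (a (c (d t)))))))^[4]

/-- The action of the fourth relation. -/
def fn4 (a c d : ℕ → ℕ) : ℕ → ℕ := (fun t => a (a (a (d (a (c t))))))^[5]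

variable {a c d : ↥G3} {fa fc fd : ℕ → ℕ}

theorem acts1 (ha : Acts a fa) (hc : Acts c fc) : Acts (rel1 a c) (fn1 fa fc) := (ha.mul hc).pow 5

theorem acts2 (ha : Acts a fa) (hc : Acts c fc) : Acts (rel2 a c) (fn2 fa fc) := (ha.mul (ha.mul hc)).pow 7

theorem acts3 (ha : Acts a fa) (hc : Acts c fc) (hd : Acts d fd) : Acts (rel3 a c d) (fn3 fa fc fd) :=
  (ha.mul (ha.mul (hc.mul (hc.mul (ha.mul (hc.mul hd)))))).pow 4

theorem acts4 (ha : Acts a fa) (hc : Acts c fc) (hd : Acts d fd) : Acts (rel4 a c d) (fn4 fa fc fd) :=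
  (ha.mul (ha.mul (ha.mul (hd.mul (ha.mul hc))))).pow 5

theorem rel12_fixes : fixesB (fn1 (lk tblA) (lk tblC)) = true ∧ fixesB (fn2 (lk tblA) (lk tblC)) = true := by
  decide +kernel

theorem rel34_fixes : fixesB (fn3 (lk tblA) (lk tblC) (lk tblZ)) = true ∧
    fixesB (fn4 (lk tblA) (lk tblC) (lk tblZ)) = true := by
  decide +kernel

theorem rel_hold : rel1 hA hC = 1 ∧ rel2 hA hC = 1 ∧ rel3 hA hC (wEl zW1) = 1 ∧ rel4 hA hC (wEl zW1) = 1 :=
  ⟨(acts1 acts_hA acts_hC).eq_one' rel12_fixes.1, (acts2 acts_hA acts_hC).eq_one' rel12_fixes.2,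
    (acts3 acts_hA acts_hC acts_zW1).eq_one' rel34_fixes.1,
    (acts4 acts_hA acts_hC acts_zW1).eq_one' rel34_fixes.2⟩

/-- The images of the first and third generators left by two relations. -/
def first4 : List (ℕ × Fin 5 × Fin 5) := [(1, 0, 4), (1, 4, 3), (2, 0, 2), (2, 4, 1)]

/-- The two final possibilities. -/
def final2 : List (ℕ × (Fin 5 × Fin 5) × Fin 5 × Fin 5) := [(1, (0, 4), 1, 4), (1, (4, 3), 4, 2)]

theorem stage_one : ∀ kk ∈ ([1, 2] : List ℕ), ∀ j i,
    (first4.contains (kk, j, i) || movesB (fn1 (aFn kk) (cFn j i)) || movesB (fn2 (aFn kk) (cFn j i))) = true := by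
  decide +kernel

theorem stage_two : ∀ t ∈ first4, ∀ j i,
    (final2.contains (t.1, t.2, j, i) || movesB (fn3 (aFn t.1) (cFn t.2.1 t.2.2) (zFn j i)) ||
      movesB (fn4 (aFn t.1) (cFn t.2.1 t.2.2) (zFn j i))) = true := by
  decide +kernel

theorem first_cases {kk : ℕ} (hk : kk ∈ ([1, 2] : List ℕ)) {j i : Fin 5}
    (h1 : rel1 (hA ^ kk) (cEl j i) = 1) (h2 : rel2 (hA ^ kk) (cEl j i) = 1) : (kk, j, i) ∈ first4 := by
  have h := stage_one kk hk j i
  simp only [Bool.or_eq_true, List.contains_iff_mem] at h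
  rcases h with (h | h) | h
  · exact h
  · exact absurd h1 ((acts1 (acts_hA.pow kk) (acts_cEl j i)).ne_one h)
  · exact absurd h2 ((acts2 (acts_hA.pow kk) (acts_cEl j i)).ne_one h)

theorem final_cases {t : ℕ × Fin 5 × Fin 5} (ht : t ∈ first4) {j i : Fin 5}
    (h3 : rel3 (hA ^ t.1) (cEl t.2.1 t.2.2) (zEl j i) = 1)
    (h4 : rel4 (hA ^ t.1) (cEl t.2.1 t.2.2) (zEl j i) = 1) : (t.1, t.2, j, i) ∈ final2 := by
  have h := stage_two t ht j i
  simp only [Bool.or_eq_true, List.contains_iff_mem] at h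
  rcases h with (h | h) | h
  · exact h
  · exact absurd h3 ((acts3 (acts_hA.pow _) (acts_cEl _ _) (acts_zEl j i)).ne_one h)
  · exact absurd h4 ((acts4 (acts_hA.pow _) (acts_cEl _ _) (acts_zEl j i)).ne_one h)

end

end Cfsg.Agent.LeechCount.Co3Out
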