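import Cfsg.Agent.Lib.LeechCount.Co3Out.PairCentraliser

/-!
Conjugation by an element exchanging the two short vectors is an outer automorphism of the pair
stabiliser.
-/

set_option autoImplicit false

namespace Cfsg.Agent.LeechCount.Co3Out

open Cfsg Cfsg.Agent.Leech Cfsg.Agent.Golay24 Cfsg.Agent.LeechCount.Co3Rank MulAction

noncomputable section

attribute [local irreducible] normFS dotFS

theorem c_inM24 : inM24 m22Out.c = true := by decide +kernel

theorem hC_val : (hC : ↥Co0) = permCo (toPerm m22Out.c) (toPerm_mem_M24 c_inM24) := rfl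

theorem orbit22 : ∀ i : GolayPt, i = none ∨ i = some 0 ∨ ∃ k : Fin 11,
    (appPt m22Out.a)^[k.val] (some 1) = i ∨ (appPt m22Out.a)^[k.val] (appPt m22Out.c (some 1)) = i ∨
      (appPt m22Out.a)^[k.val] (appPt m22Out.c (appPt m22Out.c (some 1))) = i := by
  decide +kernel

theorem small_cases : ∀ p ∈ Finset.Icc (-8 : ℤ) 8, ∀ q ∈ Finset.Icc (-8 : ℤ) 8, ∀ A ∈ Finset.Icc (-1 : ℤ) 1,
    p ^ 2 + q ^ 2 + 22 * A ^ 2 = 64 → 5 * p + q + 22 * A = 40 → p = 8 ∧ q = 0 ∧ A = 0 := by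
  decide +kernel

/-- The point stabiliser has one fixed vector with these invariants. -/
theorem fixed22 {y : Vec} (hy : y ∈ leechLattice) (hn : sqNorm y = 64) (hd : dotInt Spor.vecV y = -40)
    (ha : ap (hA : ↥Co0) y = y) (hc : ap (hC : ↥Co0) y = y) : y = e8 none := by
  rw [hA_val] at ha
  rw [hC_val] at hc
  have fa := fixed_app ab_inM24.1 hy ha
  have fc := fixed_app c_inM24 hy hc
  have hrep : ∀ i, i ≠ none → i ≠ some 0 → y i = y (some 1) := fun i h1 h2 => by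
    obtain ⟨k, hk | hk | hk⟩ := ((orbit22 i).resolve_left h1).resolve_left h2 <;>
      rw [← hk, iterate_const fa]
    · exact fc _
    · exact (fc _).trans (fc _)
  have key : ∀ f : GolayPt → ℤ → ℤ, (∀ i, i ≠ none → ∀ t, f i t = f (some 1) t) →
      ∑ i, f i (y i) = f none (y none) + f (some 0) (y (some 0)) + 22 * f (some 1) (y (some 1)) := by
    intro f hf
    rw [Fintype.sum_option, ← Finset.add_sum_erase Finset.univ _ (Finset.mem_univ (0 : ZMod 23))]
    rw [Finset.sum_congr rfl fun i hi => by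
      rw [hrep (some i) (by simp) (by simpa using (Finset.mem_erase.1 hi).1), hf (some i) (by simp)]]
    rw [Finset.sum_const, Finset.card_erase_of_mem (Finset.mem_univ _), Finset.card_univ, ZMod.card]
    simp only [nsmul_eq_mul]
    push_cast
    ring
  have f1 : sqNorm y = y none ^ 2 + y (some 0) ^ 2 + 22 * y (some 1) ^ 2 := key (fun _ t => t ^ 2) fun _ _ _ => rfl
  have f2 : dotInt Spor.vecV y = -(5 * y none + y (some 0) + 22 * y (some 1)) := by
    refine (key (fun i t => Spor.vecV i * t) fun i hi t => by simp [Spor.vecV, hi]).trans ?_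
    simp [Spor.vecV]
    ring
  rw [hn] at f1
  rw [hd] at f2
  have hp : -8 ≤ y none ∧ y none ≤ 8 := by
    constructor <;> nlinarith [sq_nonneg (y (some 0)), sq_nonneg (y (some 1))]
  have hq : -8 ≤ y (some 0) ∧ y (some 0) ≤ 8 := by
    constructor <;> nlinarith [sq_nonneg (y none), sq_nonneg (y (some 1))]
  have hA : -1 ≤ y (some 1) ∧ y (some 1) ≤ 1 := by
    constructor <;> nlinarith [sq_nonneg (y none), sq_nonneg (y (some 0))]
  obtain ⟨e1, e2, e3⟩ := small_cases _ (Finset.mem_Icc.2 hp) _ (Finset.mem_Icc.2 hq) _ (Finset.mem_Icc.2 hA)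
    f1.symm (by omega)
  funext i
  by_cases h1 : i = none
  · subst h1; simp [e8, e1]
  by_cases h2 : i = some 0
  · subst h2; simp [e8, e2]
  rw [hrep i h1 h2, e3]
  simp [e8, h1]

theorem ap_W1 {g : ↥Co0} : ap g (W1 : Vec) = -ap g Spor.vecV + -ap g Spor.vecU := by
  show ap g (-Spor.vecV + -Spor.vecU) = _
  rw [ap_add _ (neg_mem vecV_leech) (neg_mem vecU_leech), ap_neg _ vecV_leech, ap_neg _ vecU_leech]

/-- The exchanging element. -/
def swapEl : ↥G3 := exists_swap.choose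

theorem swap_U : ap (swapEl : ↥Co0) Spor.vecU = -Spor.vecV + -Spor.vecU := exists_swap.choose_spec

theorem swap_W : ap (swapEl : ↥Co0) (-Spor.vecV + -Spor.vecU) = Spor.vecU := by
  rw [show -Spor.vecV + -Spor.vecU = (W1 : Vec) from rfl, ap_W1, mem_G3.1 swapEl.2, swap_U]
  abel

theorem SM_map : SM.map (MulAut.conj swapEl).toMonoidHom = SM := by
  refine Subgroup.eq_of_le_of_card_ge ?_
    (le_of_eq (Nat.card_congr ((MulAut.conj swapEl).subgroupMap SM).toEquiv))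
  rintro x ⟨g, hg, rfl⟩
  rw [mem_SM]
  have hW : ap (g : ↥Co0) (W1 : Vec) = W1 := by
    rw [ap_W1, mem_G3.1 g.2, mem_SM.1 hg]; rfl
  have hinv : ap ((swapEl⁻¹ : ↥G3) : ↥Co0) Spor.vecU = (W1 : Vec) := by
    conv_lhs => rw [← swap_W]
    rw [Subgroup.coe_inv, show -Spor.vecV + -Spor.vecU = (W1 : Vec) from rfl, ap_inv_ap _ W1.2]
  show ap ((swapEl * g * swapEl⁻¹ : ↥G3) : ↥Co0) Spor.vecU = Spor.vecU
  rw [Subgroup.coe_mul, Subgroup.coe_mul, ap_mul _ _ vecU_leech, hinv, ap_mul _ _ W1.2, hW]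
  exact swap_W

/-- The outer automorphism. -/
def swapAut : MulAut ↥SM := ((MulAut.conj swapEl).subgroupMap SM).trans (MulEquiv.subgroupCongr SM_map)

theorem swapAut_val (x : ↥SM) : ((swapAut x : ↥SM) : ↥G3) = swapEl * x * swapEl⁻¹ := rfl

theorem swapAut_outer : swapAut ∉ Inn ↥SM := by
  rintro ⟨m, hm⟩
  have hcomm : ∀ x : ↥SM, ((m : ↥G3)⁻¹ * swapEl) * x = x * ((m : ↥G3)⁻¹ * swapEl) := fun x => by
    have h : (m : ↥G3) * x * (m : ↥G3)⁻¹ = swapEl * x * swapEl⁻¹ := by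
      rw [← swapAut_val, ← hm]; rfl
    calc ((m : ↥G3)⁻¹ * swapEl) * x = (m : ↥G3)⁻¹ * (swapEl * x * swapEl⁻¹) * swapEl := by group
      _ = x * ((m : ↥G3)⁻¹ * swapEl) := by rw [← h]; group
  set z := (m : ↥G3)⁻¹ * swapEl with hz
  obtain ⟨hy, hn, hd⟩ := image_facts z.2
  have hfix : ∀ σ : ↥Spor.M22, ap (iota22 σ : ↥Co0) (ap (z : ↥Co0) (e8 none)) = ap (z : ↥Co0) (e8 none) :=
    fun σ => fixed_of_rel (hcomm ⟨iota22 σ, iota22_mem_SM σ⟩) (e8_mem none) (e8_fixed _)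
  obtain ⟨σ, hσ⟩ := mem_iota_of_fix (fixed22 hy hn hd (hfix _) (hfix _))
  have hm' : ap (((m : ↥G3)⁻¹ : ↥G3) : ↥Co0) (W1 : Vec) = W1 := by
    rw [ap_W1, mem_G3.1 ((m : ↥G3)⁻¹).2, mem_SM.1 (SM.inv_mem m.2)]; rfl
  have h1 : ap (z : ↥Co0) Spor.vecU = (W1 : Vec) := by
    rw [hz, Subgroup.coe_mul, ap_mul _ _ vecU_leech, swap_U]
    exact hm'
  rw [hσ, iota_val] at h1
  have h2 := congrFun h1 none
  rw [ap_permCo _ vecU_leech, show σ.1.symm none = none by rw [Equiv.symm_apply_eq]; exact σ.2.2.symm] at h2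
  simp [W1, Spor.vecU, Spor.vecV, U0, U1] at h2

end

end Cfsg.Agent.LeechCount.Co3Out
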