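import Cfsg.Agent.Lib.LeechCount.Co3Out.PairCheck
import Cfsg.Agent.Lib.LeechCount.Co3Out.PairOuter
import Cfsg.Agent.Lib.LeechCount.Co3Out.Model

/-!
The outer automorphism group of the pair stabiliser has order two.
-/

set_option autoImplicit false

namespace Cfsg.Agent.LeechCount.Co3Out

open Cfsg Cfsg.Agent.Leech Cfsg.Agent.Golay24 Cfsg.Agent.LeechCount.Co3Rank MulAction

noncomputable section

attribute [local irreducible] normFS dotFS

/-- First generator. -/
abbrev sA : ↥SM := ⟨hA, iota22_mem_SM _⟩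

/-- Second generator. -/
abbrev sB : ↥SM := ⟨hB, iota22_mem_SM _⟩

/-- Third generator. -/
abbrev sC : ↥SM := ⟨hC, iota22_mem_SM _⟩

/-- Fourth generator. -/
abbrev sD : ↥SM := ⟨wEl zW1, zW1_mem_SM⟩

theorem gen_SM : Subgroup.closure ({sA, sB, sC, sD} : Set ↥SM) = ⊤ := by
  apply Subgroup.map_injective SM.subtype_injective
  rw [MonoidHom.map_closure, ← MonoidHom.range_eq_map, Subgroup.range_subtype]
  conv_rhs => rw [← KM_eq, KM]
  congr 1
  simp only [Set.image_insert_eq, Set.image_singleton, Subgroup.coe_subtype]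

theorem zEl_mem (j i : Fin 5) : zEl j i ∈ SM :=
  SM.mul_mem (zW_SM j) (SM.pow_mem (iota22_mem_SM _) _)

theorem cEl_mem (j i : Fin 5) : cEl j i ∈ SM := SM.mul_mem (zEl_mem j i) (iota22_mem_SM _)

theorem hB_pow5 : hB ^ 5 = 1 := by rw [hB, ← map_pow, B22_pow5, map_one]

theorem cEl_id : cEl 0 4 = hC := by
  rw [cEl, zEl, show wEl (zW 0) = 1 from rfl, one_mul, show ((4 : Fin 5).val + 1) = 5 from rfl, hB_pow5, one_mul]

theorem zEl_id : zEl 1 4 = wEl zW1 := by
  rw [zEl, show ((4 : Fin 5).val + 1) = 5 from rfl, hB_pow5, mul_one, zW, wEl_pow]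
  exact pow_one _

/-- An automorphism in normal form. -/
def IsForm (χ : MulAut ↥SM) (t : ℕ × (Fin 5 × Fin 5) × Fin 5 × Fin 5) : Prop :=
  ((χ sA : ↥SM) : ↥G3) = hA ^ t.1 ∧ χ sB = sB ∧ ((χ sC : ↥SM) : ↥G3) = cEl t.2.1.1 t.2.1.2 ∧
    ((χ sD : ↥SM) : ↥G3) = zEl t.2.2.1 t.2.2.2

theorem rel_map {M N : Type*} [Monoid M] [Monoid N] (f : M →* N) (a c d : M) :
    f (rel1 a c) = rel1 (f a) (f c) ∧ f (rel2 a c) = rel2 (f a) (f c) ∧
      f (rel3 a c d) = rel3 (f a) (f c) (f d) ∧ f (rel4 a c d) = rel4 (f a) (f c) (f d) := by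
  simp [rel1, rel2, rel3, rel4]

set_option maxHeartbeats 1600000 in
theorem classify (φ : MulAut ↥SM) : ∃ h : ↥SM, ∃ t ∈ final2, IsForm (MulAut.conj h * φ) t := by
  have := Fact.mk (show Nat.Prime 11 by norm_num)
  have hfac : (Nat.card ↥SM).factorization 11 = 1 :=
    factorization_eq_one (m := 81648000) (by norm_num) (by rw [card_SM]) (by norm_num)
  let L : List ↥SM := (List.finRange 5).flatMap fun j => (List.finRange 5).map fun i => ⟨cEl j i, cEl_mem j i⟩
  have hord : orderOf sA = 11 := by rw [← hA_order, ← Subgroup.orderOf_coe]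
  obtain ⟨h, kk, hkk, g, hg, e1, e2, e3⟩ := aut_normal_form (r := 3) (s := 2) (ks := [1, 2]) (L := L)
    hfac hord
    (fun k h0 hk => (show ∀ k < 11, 0 < k → ∃ i < 5, ∃ kk ∈ ([1, 2] : List ℕ), k * 3 ^ i % 11 = kk % 11 by
      decide +kernel) k hk h0 |>.imp fun i hi => hi.2)
    (Subtype.ext hA_rel : sB * sA = sA ^ 3 * sB)
    (fun g hg => (normaliser_hA g.2 (congrArg Subtype.val hg)).imp fun j hj => Subtype.ext hj)
    (Subtype.ext hB_rel : sC * sB = sB ^ 2 * sC)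
    (fun g hg => by
      obtain ⟨j, i, hji⟩ := normaliser_hB g.2 (congrArg Subtype.val hg)
      exact List.mem_flatMap.2 ⟨j, List.mem_finRange j, List.mem_map.2 ⟨i, List.mem_finRange i,
        Subtype.ext hji.symm⟩⟩) φ
  obtain ⟨j, -, hj⟩ := List.mem_flatMap.1 hg
  obtain ⟨i, -, hi⟩ := List.mem_map.1 hj
  generalize hχ : MulAut.conj h * φ = χ at e1 e2 e3
  let ψ : ↥SM →* ↥G3 := SM.subtype.comp χ.toMonoidHom
  have qA : ψ sA = hA ^ kk := by
    show ((χ sA : ↥SM) : ↥G3) = _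
    rw [e1, Subgroup.coe_pow]
  have qC : ψ sC = cEl j i := by
    show ((χ sC : ↥SM) : ↥G3) = _
    rw [e3, ← hi]
  have keep : ∀ {x : ↥SM}, SM.subtype x = 1 → ψ x = 1 := fun hx => by
    rw [(map_eq_one_iff SM.subtype SM.subtype_injective).1 hx, map_one]
  have rA : SM.subtype sA = hA := rfl
  have rC : SM.subtype sC = hC := rfl
  have rD : SM.subtype sD = wEl zW1 := rfl
  obtain ⟨u1, u2, u3, u4⟩ := rel_map SM.subtype sA sC sD
  simp only [rA, rC, rD] at u1 u2 u3 u4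
  obtain ⟨w1, w2, w3, w4⟩ := rel_map ψ sA sC sD
  have hfirst : (kk, j, i) ∈ first4 := by
    refine first_cases hkk ?_ ?_
    · rw [← qA, ← qC, ← w1]; exact keep (u1.trans rel_hold.1)
    · rw [← qA, ← qC, ← w2]; exact keep (u2.trans rel_hold.2.1)
  have hcomm : Commute ((χ sD : ↥SM) : ↥G3) hB := by
    have h0 : Commute sD sB := Subtype.ext (by simpa [zW, wEl_pow] using zW_comm 1)
    have h1 := h0.map χ.toMonoidHom
    have h2 : Commute (χ sD) sB := by rw [← e2]; exact h1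
    exact congrArg Subtype.val h2.eq
  obtain ⟨j', i', hd'⟩ := centraliser_hB (χ sD).2 hcomm.eq
  have qD : ψ sD = zEl j' i' := hd'
  have hfin : (kk, (j, i), j', i') ∈ final2 := by
    refine final_cases hfirst ?_ ?_
    · rw [← qA, ← qC, ← qD, ← w3]; exact keep (u3.trans rel_hold.2.2.1)
    · rw [← qA, ← qC, ← qD, ← w4]; exact keep (u4.trans rel_hold.2.2.2)
  refine ⟨h, _, hfin, ?_⟩
  rw [hχ]
  exact ⟨qA, e2, qC, qD⟩

theorem form_unique {χ χ' : MulAut ↥SM} {t : ℕ × (Fin 5 × Fin 5) × Fin 5 × Fin 5} (h : IsForm χ t)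
    (h' : IsForm χ' t) : χ = χ' := by
  have := MonoidHom.eq_of_eqOn_dense gen_SM (f := χ.toMonoidHom) (g := χ'.toMonoidHom) (by
    rintro x (rfl | rfl | rfl | rfl)
    exacts [Subtype.ext (h.1.trans h'.1.symm), h.2.1.trans h'.2.1.symm,
      Subtype.ext (h.2.2.1.trans h'.2.2.1.symm), Subtype.ext (h.2.2.2.trans h'.2.2.2.symm)])
  exact MulEquiv.ext fun x => DFunLike.congr_fun this x

theorem form_one : IsForm 1 (1, (0, 4), 1, 4) :=
  ⟨by rw [pow_one]; rfl, rfl, cEl_id.symm, zEl_id.symm⟩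

theorem card_out_SM : Nat.card (Cfsg.Out ↥SM) = 2 := by
  refine card_out_eq_two swapAut_outer fun φ => ?_
  obtain ⟨h, t, ht, hf⟩ := classify φ
  obtain ⟨h0, t0, ht0, hf0⟩ := classify swapAut
  simp only [final2, List.mem_cons, List.not_mem_nil, or_false] at ht ht0
  rcases ht with rfl | rfl
  · left
    have e := form_unique hf form_one
    exact ⟨h⁻¹, by rw [map_inv]; exact inv_eq_of_mul_eq_one_right e⟩
  rcases ht0 with rfl | rfl
  · have e := form_unique hf0 form_one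
    exact absurd ⟨h0⁻¹, by rw [map_inv]; exact inv_eq_of_mul_eq_one_right e⟩ swapAut_outer
  right
  have e := form_unique hf hf0
  have e2 : φ = MulAut.conj (h⁻¹ * h0) * swapAut := by
    rw [map_mul, map_inv, mul_assoc, ← e, inv_mul_cancel_left]
  rw [e2, ← mul_assoc]
  exact Subgroup.Normal.conj_mem' inferInstance _ (MonoidHom.mem_range.2 ⟨h⁻¹ * h0, rfl⟩) _

theorem card_out_pair : Nat.card (Cfsg.Out ↥Spor.McL) = 2 := by
  rw [card_out_congr mclEquiv]
  exact card_out_SM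

end

end Cfsg.Agent.LeechCount.Co3Out
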